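import Mathlib
import Cfsg.Agent.O7R.Bas

/-! S3101: passing to `C(t 6) / O(C(t 6))` and back. -/

set_option autoImplicit false
set_option linter.unusedSectionVars false

namespace Cfsg.Agent.O7R

open Subgroup Cfsg.Agent.PLocal.Amb Cfsg.Agent.Lyons Cfsg.Agent.Class.Orth Cfsg.Agent.KSG QuadraticMap

variable {G H : Type*} [Group G] [Group H] {S : Subgroup G} {τ : VV 7 →* G} {n n' : G}
  {σ σ' : Equiv.Perm (Fin 7)}

variable [Finite G] {π : 𝐳[t τ 6] →* H} {τ' : VV 7 →* H}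

omit [Finite G] in
theorem lf_mem (τ : VV 7 →* G) (v : VV 7) : τ v ∈ 𝐳[t τ 6] :=
  mem_centralizer_singleton_iff.2 (tau_comm τ v (ee 6)).eq

omit [Finite G] in
theorem lf_two (τ : VV 7 →* G) : IsPGroup 2 τ.range := isPGroup_iff.2 (by
  rintro _ ⟨v, rfl⟩
  exact ⟨1, by rw [pow_one, pow_two, tau_sq]⟩)

theorem lf_odd {K : Subgroup G} (h : ∀ x ∈ K, Odd (orderOf x)) : Odd (Nat.card K) := by
  by_contra hc
  obtain ⟨x, hx⟩ := exists_prime_orderOf_dvd_card' (G := K) 2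
    (even_iff_two_dvd.1 (Nat.not_odd_iff_even.1 hc))
  have := h x x.2
  rw [orderOf_coe, hx] at this
  exact absurd this (by decide)

omit [Finite G] in
theorem Qt.tau' (q : Qt τ π τ') (v : VV 7) : π ⟨τ v, lf_mem τ v⟩ = τ' v := q.tau v _ rfl

theorem Qt.odd_ker (q : Qt τ π τ') {x : 𝐳[t τ 6]} (h : π x = 1) : Odd (orderOf x) := by
  rw [← orderOf_coe]
  exact odd_orderOf (odd_oc _) ((q.ker x).1 h)

omit [Finite G] in
theorem exists_qt (τ : VV 7 →* G) :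
    ∃ τ' : VV 7 →* (𝐳[t τ 6] ⧸ pPrimeCore 2 𝐳[t τ 6]), Qt τ (QuotientGroup.mk' _) τ' := by
  refine ⟨(QuotientGroup.mk' _).comp (τ.codRestrict _ (lf_mem τ)), QuotientGroup.mk'_surjective _,
    fun x => ?_, fun v x e => ?_⟩
  · rw [QuotientGroup.mk'_apply, QuotientGroup.eq_one_iff]
    exact mem_map_subtype.symm
  · exact congrArg _ (Subtype.ext e)

theorem Qt.oc_top (q : Qt τ π τ') : oc (⊤ : Subgroup H) = ⊥ := by
  have := Finite.of_surjective π q.surj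
  have hn : (oc (⊤ : Subgroup H)).Normal := normalizer_eq_top_iff.1 (top_le_iff.1 (le_norm_oc _))
  have h1 : ((oc (⊤ : Subgroup H)).comap π).map (𝐳[t τ 6]).subtype ≤ oc 𝐳[t τ 6] := by
    refine le_oc (map_subtype_le _) (le_normalizer_map_subtype _) (lf_odd ?_)
    rintro _ ⟨x, hx, rfl⟩
    have h2 := odd_orderOf (odd_oc _) (mem_comap.1 hx)
    have h3 := q.odd_ker (x := x ^ orderOf (π x)) (by rw [map_pow, pow_orderOf_eq_one])
    rw [coe_subtype, orderOf_coe]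
    exact (h2.mul h3).of_dvd_nat (orderOf_dvd_of_pow_eq_one (by rw [pow_mul, pow_orderOf_eq_one]))
  refine eq_bot_iff.2 fun y hy => ?_
  obtain ⟨x, rfl⟩ := q.surj y
  exact (q.ker x).2 (h1 ⟨x, hy, rfl⟩)

/-- `π` is injective on elements of `2`-subgroups -/
theorem Qt.eq_of (q : Qt τ π τ') {P : Subgroup G} (hP : IsPGroup 2 P) {a b : 𝐳[t τ 6]} (ha : (a : G) ∈ P)
    (hb : (b : G) ∈ P) (e : π a = π b) : a = b := by
  have h1 := q.odd_ker (x := a⁻¹ * b) (by rw [map_mul, map_inv, e, inv_mul_cancel])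
  rw [← orderOf_coe] at h1
  exact inv_mul_eq_one.1 (Subtype.ext (eq_one_of_odd hP (mul_mem (inv_mem ha) hb) h1))

theorem Qt.ker' (q : Qt τ π τ') (k : ∀ v, τ v = 1 ↔ v = 1 ∨ v = al 7) (v : VV 7) :
    τ' v = 1 ↔ v = 1 ∨ v = al 7 := by
  rw [← k, ← q.tau']
  refine ⟨fun e => congrArg Subtype.val (q.eq_of (lf_two τ) (b := 1) ⟨v, rfl⟩ (one_mem _)
    (e.trans (map_one π).symm)), fun e => ?_⟩
  rw [show (⟨τ v, lf_mem τ v⟩ : 𝐳[t τ 6]) = 1 from Subtype.ext e, map_one]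

/-- Lifting of conjugations between `2`-subgroups: if `y` conjugates the image of the `2`-subgroup `P` into
the image of the `2`-subgroup `R`, then some preimage of `y` conjugates `P` into `R` (Sylow in `R O`). -/
theorem Qt.lift (q : Qt τ π τ') {P R : Subgroup 𝐳[t τ 6]} (hP : IsPGroup 2 P) (hR : IsPGroup 2 R) {y : H}
    (hy : ∀ a ∈ P, ∃ b ∈ R, y * π a * y⁻¹ = π b) : ∃ x, π x = y ∧ ∀ a ∈ P, x * a * x⁻¹ ∈ R := by
  obtain ⟨x, rfl⟩ := q.surj y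
  have hn : R ≤ 𝐍[π.ker] := le_top.trans (normalizer_eq_top _).ge
  have h1 : IsSyl 2 R (R ⊔ π.ker) := ⟨le_sup_left, hR, fun Q hQ k1 k2 a ha => by
    obtain ⟨r, hr, o, ho, e⟩ := (mem_sup_of_le_normalizer_right hn).1 (k2 ha)
    have : o = 1 := eq_one_of_odd hQ ((mul_mem_cancel_left (k1 hr)).1 (e ▸ ha)) (q.odd_ker ho)
    rwa [e, this, mul_one]⟩
  have h2 : cj(x, P) ≤ R ⊔ π.ker := cj_le_iff_forall.2 fun a ha => by
    obtain ⟨b, hb, e⟩ := hy a ha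
    rw [← mul_inv_cancel_left b (x * a * x⁻¹)]
    refine mul_mem_sup hb (MonoidHom.mem_ker.2 ?_)
    simp only [map_mul, map_inv, e, inv_mul_cancel]
  obtain ⟨g, hg, h3⟩ := h1.exists_cj_le (isPGroup_cj x hP) h2
  obtain ⟨r, hr, o, ho, rfl⟩ := (mem_sup_of_le_normalizer_right hn).1 hg
  refine ⟨o * x, by rw [map_mul, MonoidHom.mem_ker.1 ho, one_mul], cj_le_iff_forall.1 ?_⟩
  rwa [cj_mul, cj_le_iff, cj_of_mem (inv_mem hr), ← cj_mul] at h3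

theorem conj_eq_of_comm' {x y : H} (h : Commute y x) : y * x * y⁻¹ = x := by
  rw [h.eq, mul_inv_cancel_right]

/-- centralizers of `2`-subgroups lift -/
theorem Qt.cent (q : Qt τ π τ') {P : Subgroup 𝐳[t τ 6]} (hP : IsPGroup 2 P) {y : H}
    (hy : ∀ a ∈ P, Commute y (π a)) : ∃ x, π x = y ∧ ∀ a ∈ P, Commute x a := by
  obtain ⟨x, e, hx⟩ := q.lift hP hP fun a ha => ⟨a, ha, conj_eq_of_comm' (hy a ha)⟩
  refine ⟨x, e, fun a ha => (comm_of_conj_eq (q.eq_of (hP.map (𝐳[t τ 6]).subtype)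
    (mem_map_subtype.2 (hx a ha)) (mem_map_subtype.2 ha) ?_)).symm⟩
  rw [map_mul, map_mul, map_inv, e, conj_eq_of_comm' (hy a ha)]

open scoped commutatorElement in
/-- `bal`: the image of `O(C(t 6) ⊓ C(t j))` is a normal subgroup of odd order of
`π(C(t 6) ⊓ C(t j)) = C_H(t' j)` (`Qt.cent`). `sep`: the image of `C(W) ⊓ C(t 6)` centralizes the image of
`W`. `gen` (with `j = 4`, `k = 5`): by `Qt.lift` and `Qt.cent` the preimages of `N(A')` and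
`C(t' 4) ⊓ C(t' 5)` lie in the right hand side. -/
theorem Qt.lc (q : Qt τ π τ') (h : Fr S τ) (l : LH τ') : Lc τ 6 := by
  have := Finite.of_surjective π q.surj
  have hA : IsPGroup 2 (τ.range.subgroupOf 𝐳[t τ 6]) := isPGroup_subgroupOf (lf_two τ) _
  have c2 : ∀ {y : H} {j k : Fin 7}, y ∈ 𝐳[t τ' j] → y ∈ 𝐳[t τ' k] →
      ∃ x, π x = y ∧ (x : G) ∈ 𝐳[t τ j] ∧ (x : G) ∈ 𝐳[t τ k] := fun {y j k} hj hk => by
    obtain ⟨x, e, hx⟩ := q.cent (y := y) (hA.to_le (H := τ.range.subgroupOf 𝐳[t τ 6] ⊓ (𝐳[y]).comap π)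
      inf_le_left) fun a ha => mem_cent.1 (mem_comap.1 ha.2)
    have m : ∀ {j}, y ∈ 𝐳[t τ' j] → (x : G) ∈ 𝐳[t τ j] := fun {j} hj =>
      mem_cent.2 (congrArg Subtype.val (hx ⟨t τ j, lf_mem τ _⟩ ⟨⟨_, rfl⟩, mem_comap.2 (by
        rw [q.tau']; exact mem_cent.2 (mem_cent.1 hj).symm)⟩).eq).symm
    exact ⟨x, e, m hj, m hk⟩
  refine ⟨fun j => ?_, fun W hW j hs => ?_, 4, 5, by decide, by decide, by decide, fun g hg => ?_⟩
  · rcases eq_or_ne j 6 with rfl | hj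
    · rw [inf_idem]
    have h1 : ((oc (𝐳[t τ 6] ⊓ 𝐳[t τ j])).subgroupOf 𝐳[t τ 6]).map π ≤ oc 𝐳[t τ' j] := by
      refine le_oc ?_ (le_normalizer_iff_cj.2 fun y hy => ?_) ?_
      · rintro _ ⟨x, hx, rfl⟩
        rw [mem_cent, t, ← q.tau']
        exact Commute.map (Subtype.ext (mem_cent.1 (oc_le _ hx).2).eq) π
      · obtain ⟨x, rfl, hx, -⟩ := c2 hy hy
        rw [← map_cj, cj_subgroupOf, cj_of_mem_normalizer (le_norm_oc _ (mem_inf.2 ⟨x.2, hx⟩))]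
      · refine Odd.of_dvd_nat ?_ (card_map_dvd _ _)
        rw [Nat.card_congr (subgroupOfEquivOfLe ((oc_le _).trans inf_le_left)).toEquiv]
        exact odd_oc _
    intro x hx
    exact (q.ker ⟨x, (oc_le _ hx).1⟩).1 (mem_bot.1 (l.bal j hj ▸ h1 ⟨_, hx, rfl⟩))
  · have h1 := l.sep ((W.subgroupOf 𝐳[t τ 6]).map π) (by
      rintro _ ⟨x, hx, rfl⟩
      obtain ⟨v, e⟩ := hW hx
      exact ⟨v, (q.tau v x e.symm).symm⟩) j fun k k1 k2 => by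
        obtain ⟨v, hv, e⟩ := hs k k1 k2
        exact ⟨v, ⟨⟨τ v, lf_mem τ v⟩, hv, q.tau' v⟩, e⟩
    refine commutator_le.2 fun a ha b hb => ?_
    have hb' : b ∈ 𝐳[t τ 6] := zpowers_le.2 (lf_mem τ _) hb
    have h2 : π ⟨a, ha.2⟩ ∈ 𝐳[t τ' j] := h1 (by
      rintro _ ⟨x, hx, rfl⟩
      rw [← map_mul, ← map_mul]
      exact congrArg π (Subtype.ext (ha.1 x hx)))
    refine (q.ker ⁅(⟨a, ha.2⟩ : 𝐳[t τ 6]), ⟨b, hb'⟩⁆).1 ?_
    obtain ⟨k, rfl⟩ := hb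
    rw [map_commutatorElement, commutatorElement_eq_one_iff_commute,
      show (⟨t τ j ^ k, hb'⟩ : 𝐳[t τ 6]) = ⟨t τ j, lf_mem τ _⟩ ^ k from rfl, map_zpow, q.tau']
    exact (mem_cent.1 h2).symm.zpow_right k
  · set M := oc 𝐳[t τ 6] ⊔ 𝐍[τ.range] ⊔ 𝐳[t τ 6] ⊓ 𝐳[t τ 4] ⊓ 𝐳[t τ 5]
    have h1 : ⊤ ≤ (M.subgroupOf 𝐳[t τ 6]).map π := l.gen.ge.trans (sup_le (fun y hy => ?_) fun y hy => ?_)
    · obtain ⟨m, hm, e⟩ := h1 (mem_top (π ⟨g, hg⟩))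
      have h2 := (q.ker (m⁻¹ * ⟨g, hg⟩)).1 (by rw [map_mul, map_inv, e, inv_mul_cancel])
      exact (mul_mem_cancel_left (inv_mem (mem_subgroupOf.1 hm))).1 (mem_sup_left (mem_sup_left h2))
    · obtain ⟨x, e, hx⟩ := q.lift (y := y) hA hA fun a ⟨v, hv⟩ => by
        obtain ⟨w, hw⟩ := conj_mem_of_mem_normalizer hy ⟨v, rfl⟩
        exact ⟨⟨τ w, lf_mem τ w⟩, ⟨w, rfl⟩, by rw [q.tau', hw, q.tau v a hv.symm]⟩
      refine ⟨x, mem_sup_left (mem_sup_right (mem_normalizer_of_cj_le (cj_le_iff_forall.2 ?_))), e⟩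
      rintro _ ⟨v, rfl⟩
      exact hx ⟨τ v, lf_mem τ v⟩ ⟨v, rfl⟩
    · obtain ⟨x, e, k1, k2⟩ := c2 hy.1 hy.2
      exact ⟨x, mem_sup_right ⟨⟨x.2, k1⟩, k2⟩, e⟩

end Cfsg.Agent.O7R
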