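import Mathlib
import Cfsg.Agent.O7R.G0

/-! S3101: centralizers in the linear model. -/

set_option autoImplicit false
set_option linter.unusedSectionVars false

namespace Cfsg.Agent.O7R

open Subgroup Cfsg.Agent.PLocal.Amb Cfsg.Agent.Lyons Cfsg.Agent.Class.Orth Cfsg.Agent.KSG QuadraticMap

variable {F : Type*} [Field F] [Fintype F] {n : ℕ}

/-- If `g` commutes with `dg v` and `v j ≠ v k` then the entries `(j, k)` and `(k, j)` of `g` vanish. -/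
theorem entry (h2 : (2 : F) ≠ 0) {g : (Fin n → F) →ₗ[F] (Fin n → F)} {v : VV n}
    (h : ∀ x, g ((dg F n v).1 x) = (dg F n v).1 (g x)) {j k : Fin n} (ne : v.toAdd j ≠ v.toAdd k) :
    g (bv F j) k = 0 := by
  have e := congrFun (h (bv F j)) k
  rw [dg_bv, map_smul, dg_apply, Pi.smul_apply, smul_eq_mul] at e
  refine by_contra fun c => ?_
  have e' := mul_right_cancel₀ c e
  have h1 : (1 : F) ≠ -1 := fun h => h2 (by linear_combination h)
  have := (by decide : ∀ a b : ZMod 2, a ≠ b → (a = 0 ∧ b = 1) ∨ (a = 1 ∧ b = 0)) _ _ ne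
  rcases this with ⟨a, b⟩ | ⟨a, b⟩ <;> rw [a, b, sg_zero, sg_one] at e'
  exacts [h1 e', h1 e'.symm]

theorem entry' (h2 : (2 : F) ≠ 0) {g : OG (Qs F 7)} {v : VV 7} (h : Commute g (τ₀ F v)) {j k : Fin 7}
    (ne : v.toAdd j ≠ v.toAdd k) : g.1 (bv F j) k = 0 :=
  entry h2 (g := g.1.toLinearMap) (v := tw v) (fun x => congrArg (fun y : OG (Qs F 7) => y.1 x) h.eq)
    fun e => ne (add_right_cancel e)

theorem line_of {g : OG (Qs F n)} {j : Fin n} (h : ∀ k, k ≠ j → g.1 (bv F j) k = 0) :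
    g.1 (bv F j) = bv F j ∨ g.1 (bv F j) = -bv F j := by
  have e : g.1 (bv F j) = g.1 (bv F j) j • bv F j := funext fun k => by
    by_cases c : k = j
    · subst c; simp [bv]
    · rw [h k c]; simp [bv, c]
  have q := OG.map_Q g (bv F j)
  rw [e, Q_smul, Qs_bv, mul_one] at q
  rcases sq_eq_one_iff.1 q with c | c <;> rw [e, c] <;> simp

/-- `entry` for `k ≠ 6`; for `k = 6 ≠ j` use `Ln.zero`. Then `g e_j = a e_j`, `a² = 1`; `comm_t`. -/
theorem sepC (h2 : (2 : F) ≠ 0) {g : OG (Qs F 7)} (hg : g ∈ Ln F 6) (j : Fin 7)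
    (hs : ∀ k, k ≠ 6 → k ≠ j → ∃ v : VV 7, Commute g (τ₀ F v) ∧ v.toAdd j ≠ v.toAdd k) :
    Commute g (τ₀ F (ee j)) := by
  refine (comm_t h2 g j).2 ?_
  by_cases c : j = 6
  · exact hg.2 j (by rw [c]; decide)
  refine line_of fun k hk => ?_
  by_cases c' : k = 6
  · exact Ln.zero h2 hg (by rw [c']; decide) (by simp [bv, hk])
  · obtain ⟨v, a, b⟩ := hs k c' hk
    exact entry' h2 a b

/-- `comm_t`: `g = dg w`, and `w` has even weight (`dg_mem`) -/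
theorem diag (h2 : (2 : F) ≠ 0) {g : OG (Qs F 7)} (hg : g ∈ Om F 7) (h : ∀ v, Commute g (τ₀ F v)) :
    ∃ v, g = τ₀ F v := by
  classical
  have e : g = dg F 7 (Multiplicative.ofAdd fun j => if g.1 (bv F j) = bv F j then 0 else 1) :=
    og_ext fun j => by
      rw [dg_bv, toAdd_ofAdd]
      split_ifs with c
      · rw [c, sg_zero, one_smul]
      · rw [((comm_t h2 g j).1 (h _)).resolve_left c, sg_one, neg_one_smul]
  exact ⟨_, e.trans (τ₀_even ((dg_mem h2 _).1 (e ▸ hg))).symm⟩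

/-- `g = τ₀ v` by `diag`. For `a ∈ F` choose `b, c` with `a² + b² + c² = 1` (`exists_mul_sq_add_mul_sq`),
`u = (a, b, c, 0, …)`, `y = r(e₀) r(u) ∈ Fx k`. Then `g σ(y) g⁻¹ = r(e₀) r(g σ u)`, so `r(g σ u) = r(u)`,
`g σ u = ±u`, `σ a = ±a`. Hence `σ² = 1` and `σ = 1` (`F35.odd_aut`). Now `g` commutes with the three-cycles
`pm p ∈ Fx k`, so `v ∘ p = v` or `v + 1` (`tau_eq`), and `p` has a fixed point. -/
theorem cenC (hF : F35 F) {k : ℕ} (hk : 3 ≤ k) {g : OG (Qs F 7)} (hg : g ∈ Om F 7) {σ : RingAut F}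
    (h1 : ∀ y ∈ Fx F k, g * fa F 7 σ y * g⁻¹ = y) (h2 : ∀ v, Commute g (τ₀ F v)) :
    σ = 1 ∧ ∃ v, g = τ₀ F v ∧ ∀ i j : Fin 7, (i : ℕ) < k → (j : ℕ) < k → v.toAdd i = v.toAdd j := by
  have t2 := hF.two_ne
  obtain ⟨v, rfl⟩ := diag t2 hg h2
  have hs : σ = 1 := by
    have key : ∀ a, σ a = a ∨ σ a = -a := fun a => by
      obtain ⟨b, c, e⟩ := exists_mul_sq_add_mul_sq t2 one_ne_zero one_ne_zero (1 - a ^ 2)
      have hu : Qs F 7 ![a, b, c, 0, 0, 0, 0] = 1 := by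
        rw [Qs_apply, Fin.sum_univ_seven]
        simp
        linear_combination e
      have u0 : ∀ j : Fin 7, k ≤ j → (![a, b, c, 0, 0, 0, 0] : Fin 7 → F) j = 0 ∧ j ≠ 0 := fun j hj => by
        have := hk.trans hj
        fin_cases j <;> simp at this ⊢
      have ua : (![a, b, c, 0, 0, 0, 0] : Fin 7 → F) 0 = a := rfl
      generalize (![a, b, c, 0, 0, 0, 0] : Fin 7 → F) = u at hu u0 ua
      have e1 := h1 (refl _ (bv F 0) * refl _ u) ⟨refl_mul_refl_mem_commutator (nd_Qs t2 7)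
        (by rw [Qs_bv]; exact one_ne_zero) (by rw [hu]; exact one_ne_zero) (by rw [Qs_bv, hu]),
        fun j hj => by
          rw [OG.mul_apply, refl_apply_of_polar_eq_zero (v := u) (by
            rw [polar_comm, polar_bv, (u0 j hj).1, mul_zero]), refl_apply_of_polar_eq_zero (by
            rw [polar_comm, polar_bv]; simp [bv, (u0 j hj).2])]⟩
      have e2 : (fun i => σ (bv F (0 : Fin 7) i)) = bv F 0 := funext fun i => by
        simp [bv, Pi.single_apply]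
      have e3 : refl (Qs F 7) ((τ₀ F v).1 (bv F 0)) = refl _ (bv F 0) := by
        rcases (comm_t t2 _ 0).1 (h2 _) with c | c <;> rw [c]
        exact refl_neg _
      rw [map_mul, fa_refl, fa_refl, ← conj_mul, conj_refl, conj_refl, e2, e3, mul_right_inj] at e1
      have e4 := congrArg (fun y : OG (Qs F 7) => y.1 u) e1
      simp only [refl_apply_self (hu ▸ one_ne_zero : Qs F 7 u ≠ 0)] at e4
      rw [refl_apply] at e4
      generalize (Qs F 7 ((τ₀ F v).1 fun i => σ (u i)))⁻¹ * polar (Qs F 7) u ((τ₀ F v).1 fun i => σ (u i)) =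
        l at e4
      have e5 : l • (τ₀ F v).1 (fun i => σ (u i)) = (2 : F) • u := by
        rw [two_smul, ← sub_sub_cancel u (l • _), e4, sub_neg_eq_add]
      have e6 := congrArg (Qs F 7) e5
      rw [Q_smul, Q_smul, OG.map_Q, map_Qs, hu, map_one, mul_one, mul_one] at e6
      have e7 := congrFun e5 0
      rw [Pi.smul_apply, Pi.smul_apply, τ₀_apply, ua, smul_eq_mul, smul_eq_mul] at e7
      have e8 := sg_mul_self F (v.toAdd 0 + ∑ i, v.toAdd i)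
      generalize sg F (v.toAdd 0 + ∑ i, v.toAdd i) = s at e7 e8
      refine sq_eq_sq_iff_eq_or_eq_neg.1 (mul_left_cancel₀ (pow_ne_zero 2 t2) ?_)
      linear_combination (l * (s * σ a) + 2 * a) * e7 - (σ a) ^ 2 * (s * s) * e6 - 2 ^ 2 * (σ a) ^ 2 * e8
    have sq : σ ^ 2 = 1 := RingEquiv.ext fun a => by
      change σ (σ a) = a
      rcases key a with c | c
      · rw [c, c]
      · rw [c, map_neg, c, neg_neg]
    exact orderOf_eq_one_iff.1 (Nat.Coprime.eq_one_of_dvd (Nat.coprime_two_right.2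
      (hF.odd_aut.of_dvd_nat (orderOf_dvd_natCard σ))) (orderOf_dvd_of_pow_eq_one sq))
  refine ⟨hs, v, rfl, fun i j hi hj => by_contra fun ne => ?_⟩
  have ij : i ≠ j := fun e => ne (e ▸ rfl)
  obtain ⟨l, l1, l2, l3⟩ := (by decide : ∀ i j : Fin 7, ∃ l : Fin 7, (l : ℕ) < 3 ∧ i ≠ l ∧ j ≠ l) i j
  have e := h1 _ (pm_mem_Fx t2 (σ := Equiv.swap i l * Equiv.swap i j) (by
    rw [map_mul, Equiv.Perm.sign_swap l2, Equiv.Perm.sign_swap ij]; rfl) fun m hm => by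
      have a1 : m ≠ i := by rintro rfl; omega
      have a2 : m ≠ j := by rintro rfl; omega
      have a3 : m ≠ l := by rintro rfl; omega
      rw [Equiv.Perm.mul_apply, Equiv.swap_apply_of_ne_of_ne a1 a2, Equiv.swap_apply_of_ne_of_ne a1 a3])
  rw [fa_pm, mul_inv_eq_iff_eq_mul] at e
  have := entry' t2 (Commute.symm e) ne
  rw [pm_bv, Equiv.Perm.mul_apply, Equiv.swap_apply_left, Equiv.swap_apply_of_ne_of_ne ij.symm l3] at this
  simp [bv] at this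

variable {X : Type*} [Group X] {C : Subgroup X} {τ : VV 7 →* X} {φ : Ln F 6 →* X} {h h' : X}
  {g g' : OG (Qs F 7)} {σ σ' : RingAut F}

theorem Ind.ex0 (a : Ind φ h g σ) (hg : g ∈ Ln F 6) (y : Ln F 6) :
    ∃ y' : Ln F 6, (y' : OG (Qs F 7)) = g * fa F 7 σ y * g⁻¹ ∧ h * φ y * h⁻¹ = φ y' :=
  ⟨⟨_, mul_mem (mul_mem hg (fa_Ln σ y.2)) (inv_mem hg)⟩, rfl, a y _ rfl⟩

theorem Ind.of (y : Ln F 6) : Ind φ (φ y) y 1 := fun z z' e => by
  rw [fa_one] at e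
  rw [show z' = y * z * y⁻¹ from Subtype.ext e, map_mul, map_mul, map_inv]

theorem Ind.mul (a : Ind φ h g σ) (b : Ind φ h' g' σ') (hg' : g' ∈ Ln F 6) :
    Ind φ (h * h') (g * fa F 7 σ g') (σ * σ') := fun y y' e => by
  obtain ⟨z, hz, e'⟩ := b.ex0 hg' y
  rw [← a z y' (by rw [e, hz, fa_mul, map_mul, map_mul, map_inv]; group), ← e']
  group

theorem Ind.inv (a : Ind φ h g σ) (hg : g ∈ Ln F 6) : Ind φ h⁻¹ (fa F 7 σ⁻¹ g⁻¹) σ⁻¹ := fun y y' e => by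
  have k : ∀ x, fa F 7 σ (fa F 7 σ⁻¹ x) = x := fun x => by rw [← fa_mul, mul_inv_cancel, fa_one]
  rw [← a y' y (by rw [e, map_mul, map_mul, map_inv (fa F 7 σ), k, k]; group)]
  group

theorem Ind.ex (a : Ind φ h g σ) (hg : g ∈ Ln F 6) (y : Ln F 6) :
    ∃ y' : Ln F 6, (y' : OG (Qs F 7)) = g * fa F 7 σ y * g⁻¹ ∧ h * φ y * h⁻¹ = φ y' := a.ex0 hg y

theorem Md.comm (m : Md C τ φ) (a : Ind φ h g σ) (hg : g ∈ Ln F 6) (y : Ln F 6) :
    Commute h (φ y) ↔ g * fa F 7 σ y * g⁻¹ = y := by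
  obtain ⟨y', e, e'⟩ := a.ex hg y
  rw [← e, commute_iff_eq, ← mul_inv_eq_iff_eq_mul, e', m.inj.eq_iff, Subtype.ext_iff]

theorem Md.comm_tau (hF : F35 F) (m : Md C τ φ) (a : Ind φ h g σ) (hg : g ∈ Ln F 6) (v : VV 7) :
    Commute h (τ v) ↔ Commute g (τ₀ F v) := by
  rw [← m.tau v ⟨_, τ₀_mem hF.two_ne v 6⟩ rfl, m.comm a hg, fa_τ₀, mul_inv_eq_iff_eq_mul]
  rfl

theorem Md.ker (hF : F35 F) (m : Md C τ φ) (v : VV 7) : τ v = 1 ↔ v = 1 ∨ v = al 7 := by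
  rw [← m.tau v ⟨_, τ₀_mem hF.two_ne v 6⟩ rfl, map_eq_one_iff _ m.inj, Subtype.ext_iff]
  exact τ₀_ker hF.two_ne v

theorem Md.zc (hF : F35 F) (m : Md C τ φ) : C ≤ 𝐳[t τ 6] := fun h hC => by
  obtain ⟨g, hg, σ, a⟩ := m.ind h hC
  exact mem_centralizer_singleton_iff.2
    ((m.comm_tau hF a hg _).2 ((comm_t hF.two_ne g 6).2 (hg.2 6 le_rfl)))

theorem Md.pm (hF : F35 F) (m : Md C τ φ) {p : Equiv.Perm (Fin 7)} {y : Ln F 6}
    (hy : (y : OG (Qs F 7)) = pm F 7 p) : Pm τ (φ y) p := fun i => by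
  rw [t, ← m.tau (ee i) ⟨_, τ₀_mem hF.two_ne _ 6⟩ rfl, ← map_inv, ← map_mul, ← map_mul]
  refine m.tau _ _ ?_
  rw [coe_mul, coe_mul, coe_inv, hy]
  exact pm_Pm p i

/-- `h = φ g * h'` with `h'` a field automorphism -/
theorem Md.dec (m : Md C τ φ) (hC : h ∈ C) : ∃ (y : Ln F 6) (σ : RingAut F), Ind φ ((φ y)⁻¹ * h) 1 σ := by
  obtain ⟨g, hg, σ, a⟩ := m.ind h hC
  have := (Ind.of (φ := φ) ⟨g, hg⟩⁻¹).mul a hg
  rw [fa_one, one_mul, map_inv, coe_inv, inv_mul_cancel] at this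
  exact ⟨_, _, this⟩

theorem Md.norm (m : Md C τ φ) : C ≤ 𝐍[φ.range] := le_normalizer_iff_cj.2 fun h hC => cj_le_iff_forall.2 (by
  rintro _ ⟨y, rfl⟩
  obtain ⟨g, hg, σ, a⟩ := m.ind h hC
  obtain ⟨y', -, e⟩ := a.ex hg y
  exact ⟨y', e.symm⟩)

/-- `cenC`: `h (τ v)⁻¹` centralizes the image of `φ`, so it is `1` or `t 6`; `v` or `v * ee 6` works. -/
theorem Md.cz (hF : F35 F) (m : Md C τ φ) {k : ℕ} (hk : 3 ≤ k) (hk' : k ≤ 6) (hC : h ∈ C)
    (h1 : ∀ y : Ln F 6, (y : OG (Qs F 7)) ∈ Fx F k → Commute h (φ y)) (h2 : ∀ v, Commute h (τ v)) :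
    ∃ v, h = τ v ∧ ∀ i j : Fin 7, (i : ℕ) < k → (j : ℕ) < k → v.toAdd i = v.toAdd j := by
  obtain ⟨g, hg, σ, a⟩ := m.ind h hC
  obtain ⟨rfl, v, rfl, hv⟩ := cenC hF hk (Ln_le 6 hg)
    (fun y hy => (m.comm a hg ⟨y, Fx_le 6 (Fx_mono hk' hy)⟩).1 (h1 _ hy))
    fun v => (m.comm_tau hF a hg v).1 (h2 v)
  have e := m.tau v ⟨_, hg⟩ rfl
  have := m.cen ((τ v)⁻¹ * h) (mul_mem (inv_mem (e ▸ m.mem _)) hC) fun y => by
    obtain ⟨y', e1, e2⟩ := a.ex hg y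
    have e3 := Ind.of (φ := φ) ⟨_, hg⟩ y y' e1
    rw [e, ← e2] at e3
    rw [commute_iff_eq, ← mul_inv_eq_iff_eq_mul, show (τ v)⁻¹ * h * φ y * ((τ v)⁻¹ * h)⁻¹ =
      (τ v)⁻¹ * (h * φ y * h⁻¹) * τ v by group, ← e3]
    group
  rcases this with c | c
  · exact ⟨v, (inv_mul_eq_one.1 c).symm, hv⟩
  · refine ⟨v * ee 6, by rw [map_mul, ← inv_mul_eq_iff_eq_mul, c], fun i j hi hj => ?_⟩
    have a1 : i ≠ 6 := by rintro rfl; exact absurd (hi.trans_le hk') (by decide)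
    have a2 : j ≠ 6 := by rintro rfl; exact absurd (hj.trans_le hk') (by decide)
    simp [ee, a1, a2, hv i j hi hj]

end Cfsg.Agent.O7R
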