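import Mathlib
import Cfsg.Agent.O7R.Aut
import Cfsg.Agent.O7R.G2

/-! S3101: an element interchanging `t 5` and `t 6`: the action on `Ω₅`. -/

set_option autoImplicit false
set_option linter.unusedSectionVars false

namespace Cfsg.Agent.O7R

open Subgroup Cfsg.Agent.PLocal.Amb Cfsg.Agent.Lyons Cfsg.Agent.Class.Orth Cfsg.Agent.KSG QuadraticMap

variable {F : Type*} [Field F] [Fintype F] {G : Type*} [Group G] [Finite G] {τ : VV 7 →* G}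
  {φ : Ln F 6 →* G}

theorem nela_v : ∀ v : VV 7, (∀ i : Fin 7, (i : ℕ) < 5 → v.toAdd i = 0) →
    v = 1 ∨ v = ee 5 ∨ v = ee 6 ∨ v = ee 5 * ee 6 := by
  decide +kernel

theorem Md.nela_five (hF : F35 F) (m : Md 𝐳[t τ 6] τ φ) {h : G} {g : OG (Qs F 7)} {σ : RingAut F}
    (a : Ind φ h g σ) (hg : g ∈ Ln F 6) (h5 : h ∈ 𝐳[t τ 5]) : g ∈ Ln F 5 :=
  ⟨hg.1, fun j hj => by
    rcases (by decide : ∀ j : Fin 7, 5 ≤ (j : ℕ) → j = 5 ∨ j = 6) j hj with rfl | rfl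
    · exact (comm_t hF.two_ne g 5).1 ((m.comm_tau hF a hg _).1 (mem_cent.1 h5).symm)
    · exact hg.2 6 le_rfl⟩

theorem Md.nela_le (hF : F35 F) (m : Md 𝐳[t τ 6] τ φ) :
    ((Fx F 5).subgroupOf (Ln F 6)).map φ ≤ 𝐳[t τ 6] ⊓ 𝐳[t τ 5] := by
  rintro _ ⟨y, hy, rfl⟩
  exact ⟨m.mem y, mem_cent.2 ((m.comm_tau hF (Ind.of y) y.2 _).2
    ((comm_t hF.two_ne _ 5).2 (Or.inl (hy.2 5 le_rfl)))).symm⟩

/-- an element of `D` inducing a linear automorphism is in `M Z(D)` -/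
theorem Md.nela_dec (hF : F35 F) (m : Md 𝐳[t τ 6] τ φ) {h : G} {g : OG (Qs F 7)}
    (a : Ind φ h g 1) (hg : g ∈ Ln F 6) (hD : h ∈ 𝐳[t τ 6] ⊓ 𝐳[t τ 5]) :
    ∃ x ∈ ((Fx F 5).subgroupOf (Ln F 6)).map φ, ∃ z, (∀ d ∈ 𝐳[t τ 6] ⊓ 𝐳[t τ 5], Commute z d) ∧
      h = x * z := by
  obtain ⟨v, hv, hm⟩ := Ln_five hF.two_ne (m.nela_five hF a hg hD.2)
  have c := m.cen ((φ ⟨g, hg⟩)⁻¹ * h) (mul_mem (inv_mem (m.mem _)) hD.1) fun y => by
    obtain ⟨y', e1, e2⟩ := a.ex hg y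
    have e3 := Ind.of (φ := φ) ⟨_, hg⟩ y y' e1
    rw [← e2] at e3
    rw [commute_iff_eq, ← mul_inv_eq_iff_eq_mul, show (φ ⟨g, hg⟩)⁻¹ * h * φ y * ((φ ⟨g, hg⟩)⁻¹ * h)⁻¹ =
      (φ ⟨g, hg⟩)⁻¹ * (h * φ y * h⁻¹) * φ ⟨g, hg⟩ by group, ← e3]
    group
  refine ⟨φ (⟨g, hg⟩ * ⟨_, τ₀_mem hF.two_ne v 6⟩), ⟨_, hm, rfl⟩, (τ v)⁻¹ * ((φ ⟨g, hg⟩)⁻¹ * h),
    fun d hd => ?_, by rw [map_mul, m.tau v ⟨_, τ₀_mem hF.two_ne v 6⟩ rfl]; group⟩
  have c5 : Commute (τ (ee 5)) d := mem_cent.1 hd.2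
  have c6 : Commute (τ (ee 6)) d := mem_cent.1 hd.1
  refine Commute.mul_left (Commute.inv_left ?_) ?_
  · rcases nela_v v hv with rfl | rfl | rfl | rfl
    · rw [map_one]; exact Commute.one_left _
    · exact c5
    · exact c6
    · rw [map_mul]; exact c5.mul_left c6
  · rcases c with c | c <;> rw [c]
    · exact Commute.one_left _
    · exact c6

/-- Let `D = C(t 6) ⊓ C(t 5)`, `M = φ (Fx 5)`. For `h ∈ D` with `Ind φ h g σ`, `g` commutes with `τ₀ (ee 5)`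
(`Md.comm_tau`), so `g ∈ Ln 5`, `h = φ m * τ v * h'` with `m ∈ Fx 5` (`Ln_five`), `τ v ∈ ⟨t 5, t 6⟩` central in `D`
and `Ind φ h' 1 σ`. So `D` normalizes `M`, and a commutator of two field automorphisms centralizes the image
of `φ` (`aut_comm`, `Ind.mul`, `Ind.inv`), so it is `1` or `t 6`. Hence `[D, D] ≤ M ⊔ ⟨t 6⟩` and
`[[D, D], [D, D]] ≤ M`; equality by `Fx_perf`. -/
theorem Md.der (hF : F35 F) (m : Md 𝐳[t τ 6] τ φ) :
    ⁅⁅𝐳[t τ 6] ⊓ 𝐳[t τ 5], 𝐳[t τ 6] ⊓ 𝐳[t τ 5]⁆, ⁅𝐳[t τ 6] ⊓ 𝐳[t τ 5], 𝐳[t τ 6] ⊓ 𝐳[t τ 5]⁆⁆ =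
      ((Fx F 5).subgroupOf (Ln F 6)).map φ := by
  set D := 𝐳[t τ 6] ⊓ 𝐳[t τ 5] with hD
  set M := ((Fx F 5).subgroupOf (Ln F 6)).map φ with hM
  have le : M ≤ D := m.nela_le hF
  have pf : ⁅M, M⁆ = M := by
    rw [hM, ← map_commutator]
    congr 1
    refine map_injective (Ln F 6).subtype_injective ?_
    rw [map_commutator, subgroupOf_map_subtype, inf_of_le_left ((Fx_le 5).trans (Ln_mono (by omega))),
      Fx_perf hF.two_ne (Or.inl rfl)]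
  let E : Subgroup G :=
    { carrier := {h | h ∈ D ∧ ∃ g ∈ Ln F 6, Ind φ h g 1}
      mul_mem' := fun {a b} ⟨ha, g, hg, x⟩ ⟨hb, g', hg', y⟩ =>
        ⟨mul_mem ha hb, _, mul_mem hg (fa_Ln 1 hg'), by simpa only [mul_one] using x.mul y hg'⟩
      one_mem' := ⟨one_mem _, 1, one_mem _, by
        have := Ind.of (φ := φ) 1
        rwa [map_one] at this⟩
      inv_mem' := fun {a} ⟨ha, g, hg, x⟩ =>
        ⟨inv_mem ha, _, fa_Ln 1⁻¹ (inv_mem hg), by simpa only [inv_one] using x.inv hg⟩ }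
  have hE : ⁅D, D⁆ ≤ E := commutator_le.2 fun a ha b hb => by
    obtain ⟨g, hg, σ, x⟩ := m.ind a ha.1
    obtain ⟨g', hg', σ', y⟩ := m.ind b hb.1
    have i1 := fa_Ln σ⁻¹ (inv_mem hg)
    have i2 := fa_Ln σ'⁻¹ (inv_mem hg')
    have k := ((x.mul y hg').mul (x.inv hg) i1).mul (y.inv hg') i2
    rw [show σ * σ' * σ⁻¹ * σ'⁻¹ = 1 from commutatorElement_eq_one_iff_commute.2 (aut_comm σ σ')] at k
    exact ⟨mul_mem (mul_mem (mul_mem ha hb) (inv_mem ha)) (inv_mem hb), _,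
      mul_mem (mul_mem (mul_mem hg (fa_Ln _ hg')) (fa_Ln _ i1)) (fa_Ln _ i2), k⟩
  refine le_antisymm (commutator_le.2 fun a ha b hb => ?_) ?_
  · obtain ⟨ha, g, hg, x⟩ := hE ha
    obtain ⟨hb, g', hg', y⟩ := hE hb
    obtain ⟨u, hu, z, hz, e⟩ := m.nela_dec hF x hg ha
    obtain ⟨u', hu', z', hz', e'⟩ := m.nela_dec hF y hg' hb
    have c1 : z * b * z⁻¹ = b := by rw [(hz b hb).eq, mul_inv_cancel_right]
    have c2 : z' * u⁻¹ * z'⁻¹ = u⁻¹ := by rw [(hz' _ (inv_mem (le hu))).eq, mul_inv_cancel_right]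
    rw [commutatorElement_def, show a * b * a⁻¹ * b⁻¹ = u * (z * b * z⁻¹) * u⁻¹ * b⁻¹ by rw [e]; group, c1,
      show u * b * u⁻¹ * b⁻¹ = u * u' * (z' * u⁻¹ * z'⁻¹) * u'⁻¹ by rw [e']; group, c2]
    exact mul_mem (mul_mem (mul_mem hu hu') (inv_mem hu)) (inv_mem hu')
  · have : M ≤ ⁅D, D⁆ := pf.ge.trans (commutator_mono le le)
    exact pf.ge.trans (commutator_mono this this)

/-- a similarity commuting with the even sign changes acts as an even sign change -/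
theorem nela_diag (h2 : (2 : F) ≠ 0) {x : SS (Qs F 5)} (hx : x.σ = 1)
    (h : ∀ v : VV 5, ∑ i, v.toAdd i = 0 → SS.cj _ x (dg F 5 v) = dg F 5 v) :
    ∃ w : VV 5, ∑ i, w.toAdd i = 0 ∧ ∀ g, SS.cj _ x g = dg F 5 w * g * (dg F 5 w)⁻¹ := by
  let L : (Fin 5 → F) →ₗ[F] (Fin 5 → F) :=
    { toFun := x.T
      map_add' := x.add
      map_smul' := fun a v => by rw [x.smul, hx]; rfl }
  have z : ∀ j k, k ≠ j → L (bv F j) k = 0 := fun j k ne => by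
    obtain ⟨v, h1, h3⟩ := (by decide +kernel : ∀ j k : Fin 5, k ≠ j →
      ∃ v : VV 5, ∑ i, v.toAdd i = 0 ∧ v.toAdd j ≠ v.toAdd k) j k ne
    refine entry h2 (g := L) (fun y => ?_) h3
    have := SS.cj_apply x (dg F 5 v) y
    rw [h v h1] at this
    exact this.symm
  have e : ∀ j, L (bv F j) = L (bv F j) j • bv F j := fun j => funext fun k => by
    by_cases c : k = j
    · subst c; simp [bv]
    · rw [z j k c]; simp [bv, c]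
  have q : ∀ j, L (bv F j) j ^ 2 = x.c := fun j => by
    have := x.q (bv F j)
    rw [Qs_bv, map_one, mul_one, show x.T (bv F j) = L (bv F j) from rfl, e, QuadraticMap.map_smul, Qs_bv,
      smul_eq_mul, mul_one, ← pow_two] at this
    exact this
  have s : ∀ j, ∃ a : ZMod 2, L (bv F j) j = sg F a * L (bv F 0) 0 := fun j =>
    (sq_eq_sq_iff_eq_or_eq_neg.1 ((q j).trans (q 0).symm)).elim (fun c => ⟨0, by rw [c, sg_zero, one_mul]⟩)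
      fun c => ⟨1, by rw [c, sg_one, neg_one_mul]⟩
  choose a ha using s
  obtain ⟨w, d, w1, w2⟩ : ∃ (w : VV 5) (d : F), ∑ i, w.toAdd i = 0 ∧
      ∀ j, L (bv F j) j = sg F (w.toAdd j) * d := by
    refine ⟨Multiplicative.ofAdd fun j => a j + ∑ i, a i, sg F (∑ i, a i) * L (bv F 0) 0, ?_, fun j => ?_⟩
    · clear ha; revert a; decide +kernel
    · rw [toAdd_ofAdd, sg_add, mul_assoc, ← mul_assoc (sg F (∑ i, a i)), sg_mul_self, one_mul, ← ha]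
  have T : ∀ y, x.T y = d • (dg F 5 w).1 y := fun y => by
    have : L = d • (dg F 5 w).1.toLinearMap := (Pi.basisFun F (Fin 5)).ext fun j => by
      rw [Pi.basisFun_apply]
      change L (bv F j) = d • (dg F 5 w).1 (bv F j)
      rw [e, w2, dg_bv, smul_smul, mul_comm]
    exact LinearMap.congr_fun this y
  refine ⟨w, w1, fun g => (SS.eq_cj fun y => ?_).symm⟩
  rw [T, T, map_smul, OG.mul_apply, OG.mul_apply, OG.inv_apply_apply]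

theorem nela_comm (h2 : (2 : F) ≠ 0) (g : OG (Qs F 5)) :
    n₀ F * up F 5 2 g * (n₀ F)⁻¹ = up F 5 2 (pm F 5 (Equiv.swap 0 1) * g * (pm F 5 (Equiv.swap 0 1))⁻¹) := by
  have c : up F 5 2 g * pm F 7 (Equiv.swap 5 6) * (up F 5 2 g)⁻¹ = pm F 7 (Equiv.swap 5 6) := by
    rw [pm_swap h2 (by decide), conj_refl, map_sub]
    exact congrArg₂ (fun a b => refl (Qs F 7) (a - b)) (up_bv g 0) (up_bv g 1)
  rw [mul_inv_eq_iff_eq_mul] at c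
  rw [map_mul, map_mul, map_inv, up_swap, n₀, map_mul, mul_assoc (pm F 7 _), ← c]
  group

theorem nela_ex (v : VV 5) : ∑ i, (ex 2 v).toAdd i = ∑ i, v.toAdd i := by
  revert v; decide +kernel

theorem nela_ex2 (v : VV 5) : (Multiplicative.ofAdd fun i => (ex 2 v : VV 7).toAdd
    ((Equiv.swap 0 1 * Equiv.swap 5 6 : Equiv.Perm (Fin 7)).symm i) : VV 7) =
      ex 2 (Multiplicative.ofAdd fun i => v.toAdd ((Equiv.swap 0 1 : Equiv.Perm (Fin 5)).symm i)) := by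
  revert v; decide +kernel

theorem nela_beta (h2 : (2 : F) ≠ 0) (φ : Ln F 6 →* G) :
    ∃ β : Om F 5 →* G, ∀ g : Om F 5, ∃ y : Ln F 6, (y : OG (Qs F 7)) = up F 5 2 g ∧ β g = φ y :=
  ⟨φ.comp (((up F 5 2).comp (Om F 5).subtype).codRestrict _ fun g =>
    Ln_mono (by omega) (Fx_le 5 ((up5 h2).le ⟨g, g.2, rfl⟩))), fun _ => ⟨_, rfl, rfl⟩⟩

set_option maxHeartbeats 800000 in
/-- Replace `n` by an odd power of `2`-power order (`Pm.pow`). `n` normalizes `D`, so `M` (`Md.der`), and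
induces an automorphism of `Om F 5 ≅ Fx 5 ≅ M` (`up5`), some `cj x` (`aut_om`). `x ^ 2 ^ k` is a scalar
(`cj_triv`), so `x.σ = 1` (`F35.odd_aut`). For even `v : VV 5`, `up (dg v) = τ₀ (ex 2 v)`, so by `Pm.tau`
`cj x (dg v) = pm s * dg v * (pm s)⁻¹`, `s = swap 0 1`. So `(pm s)⁻¹ x` commutes with the even `dg v`, it is
diagonal (`entry`), `= d · dg w` as a similarity, and we may take `w` even (`dg (w + 1) = -dg w`). Then
`n' = n (τ (ex 2 w))⁻¹` acts on `Fx 5` as `up (pm s) = pm 7 s` (`up_swap`), i.e. as `n₀` (`pm (swap 5 6)` is a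
reflection in a vector orthogonal to `V₅` and commutes with `Fx 5`), and on the `τ₀ v` as `n₀` (`pm_Pm`);
`Ln_five`. -/
theorem Md.act (hF : F35 F) (m : Md 𝐳[t τ 6] τ φ) (h : ∃ n, Pm τ n (Equiv.swap 0 1 * Equiv.swap 5 6)) :
    ∃ n, ∀ y y' : Ln F 6, (y : OG (Qs F 7)) ∈ Ln F 5 → (y' : OG (Qs F 7)) = n₀ F * y * (n₀ F)⁻¹ →
      n * φ y * n⁻¹ = φ y' := by
  have h2 := hF.two_ne
  obtain ⟨n, hn⟩ := h
  obtain ⟨k, o, ho, e⟩ := Nat.exists_eq_two_pow_mul_odd (orderOf_pos n).ne'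
  have p1 : (n ^ o) ^ 2 ^ k = 1 := by rw [← pow_mul, mul_comm, ← e, pow_orderOf_eq_one]
  have p2 := hn.pow o
  obtain ⟨o, rfl⟩ := ho
  rw [pow_succ (_ * _), pow_mul (_ * _), show (Equiv.swap 0 1 * Equiv.swap 5 6 : Equiv.Perm (Fin 7)) ^ 2 = 1 by
    decide, one_pow, one_mul] at p2
  generalize n ^ (2 * o + 1) = n at p1 p2
  obtain ⟨β, hb⟩ := nela_beta h2 φ
  have hβ : ∀ (g : Om F 5) (y : Ln F 6), (y : OG (Qs F 7)) = up F 5 2 g → β g = φ y := fun g y c => by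
    obtain ⟨y', c1, c2⟩ := hb g
    rw [c2, show y' = y from Subtype.ext (c1.trans c.symm)]
  have inj : Function.Injective β := fun a b c => by
    obtain ⟨y, c1, c2⟩ := hb a
    obtain ⟨y', c3, c4⟩ := hb b
    rw [c2, c4] at c
    rw [m.inj c, c3] at c1
    exact Subtype.ext (up_inj c1).symm
  have rg : β.range = ((Fx F 5).subgroupOf (Ln F 6)).map φ := by
    refine le_antisymm ?_ ?_
    · rintro _ ⟨g, rfl⟩
      obtain ⟨y, c1, c2⟩ := hb g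
      exact ⟨y, (up5 h2).le ⟨g, g.2, c1.symm⟩, c2.symm⟩
    · rintro _ ⟨y, hy, rfl⟩
      obtain ⟨g, hg, c⟩ := (up5 h2).ge hy
      exact ⟨⟨g, hg⟩, hβ _ _ c.symm⟩
  have nD : cj(n, 𝐳[t τ 6] ⊓ 𝐳[t τ 5]) = 𝐳[t τ 6] ⊓ 𝐳[t τ 5] := by
    rw [cj_inf, ← centralizer_singleton_conj, ← centralizer_singleton_conj, p2 6, p2 5, inf_comm]
    rfl
  have nM : n ∈ 𝐍[β.range] := by
    rw [← cj_eq_iff, rg, ← m.der hF, map_commutator, map_commutator, nD]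
  obtain ⟨θ, hθ⟩ : ∃ θ : MulAut (Om F 5), ∀ g, β (θ g) = n * β g * n⁻¹ :=
    ⟨_, indAut₀_spec β inj ⟨n, nM⟩⟩
  obtain ⟨x, hx⟩ := aut_om hF (Or.inl rfl) θ
  have pw : ∀ (j : ℕ) (g : Om F 5), ((θ ^ j) g : OG (Qs F 5)) = SS.cj _ (x ^ j) g ∧
      β ((θ ^ j) g) = n ^ j * β g * (n ^ j)⁻¹ := by
    intro j
    induction j with
    | zero => intro g; simp
    | succ j ih =>
      intro g
      rw [pow_succ', pow_succ', pow_succ', map_mul, MulAut.mul_apply, MulAut.mul_apply, hx, hθ, (ih g).1,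
        (ih g).2]
      exact ⟨rfl, by group⟩
  have xs : x.σ = 1 := by
    obtain ⟨a, ha⟩ := cj_triv h2 le_rfl (x := x ^ 2 ^ k) fun g hg => by
      obtain ⟨c1, c2⟩ := pw (2 ^ k) ⟨g, hg⟩
      rw [p1, one_mul, inv_one, mul_one] at c2
      rw [← c1, inj c2]
    have := congrArg SS.σ ha
    rw [SS.pow_σ, SS.sO_σ] at this
    exact orderOf_eq_one_iff.1 (Nat.Coprime.eq_one_of_dvd ((Nat.coprime_two_right.2
      (hF.odd_aut.of_dvd_nat (orderOf_dvd_natCard x.σ))).pow_right k) (orderOf_dvd_of_pow_eq_one this))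
  have bt : ∀ (v : VV 5) (g : Om F 5), (g : OG (Qs F 5)) = dg F 5 v → β g = τ (ex 2 v) := fun v g c => by
    obtain ⟨y, c1, c2⟩ := hb g
    rw [c2]
    refine m.tau _ _ ?_
    rw [c1, c, up_dg, τ₀_even ((nela_ex v).trans ((dg_mem h2 v).1 (c ▸ g.2)))]
  obtain ⟨w, w1, w2⟩ := nela_diag h2 (x := (SS.oO _ (O7R.pm F 5 (Equiv.swap 0 1)))⁻¹ * x)
    (by rw [SS.mul_σ, SS.inv_σ, SS.oO_σ, xs, inv_one, mul_one]) fun v hv => by
      have a1 := hθ ⟨_, (dg_mem h2 v).2 hv⟩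
      have a2 : O7R.pm F 5 (Equiv.swap 0 1) * dg F 5 v * (O7R.pm F 5 (Equiv.swap 0 1))⁻¹ ∈ Om F 5 :=
        (inferInstance : (Om F 5).Normal).conj_mem _ ((dg_mem h2 v).2 hv) _
      have a3 := bt _ ⟨_, a2⟩ (pm_dg _ v)
      rw [bt v ⟨_, (dg_mem h2 v).2 hv⟩ rfl, p2.tau, nela_ex2, ← a3] at a1
      have a4 := hx ⟨_, (dg_mem h2 v).2 hv⟩
      rw [inj a1] at a4
      rw [map_mul, MulAut.mul_apply, ← a4, ← map_inv, SS.cj_oO]
      group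
  have w3 : ∀ g, SS.cj _ x g = O7R.pm F 5 (Equiv.swap 0 1) * (dg F 5 w * g * (dg F 5 w)⁻¹) *
      (O7R.pm F 5 (Equiv.swap 0 1))⁻¹ := fun g => by
    rw [← w2, ← SS.cj_oO, ← MulAut.mul_apply, ← map_mul, mul_inv_cancel_left]
  have p3 : Pm τ (n * (τ (ex 2 w))⁻¹) (Equiv.swap 0 1 * Equiv.swap 5 6) := by
    simpa only [inv_one, mul_one] using p2.mul (Pm.of_tau (ex 2 w)).inv
  refine ⟨n * (τ (ex 2 w))⁻¹, fun y y' hy e => ?_⟩
  obtain ⟨v, -, hv⟩ := Ln_five h2 hy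
  obtain ⟨g, hg, c⟩ := (up5 h2).ge hv
  obtain ⟨d, hd⟩ : ∃ d : Om F 5, (d : OG (Qs F 5)) = dg F 5 w := ⟨⟨_, (dg_mem h2 w).2 w1⟩, rfl⟩
  have b1 : φ y = β ⟨g, hg⟩ * (τ v)⁻¹ := by
    rw [eq_mul_inv_iff_mul_eq, ← m.tau v ⟨_, τ₀_mem h2 v 6⟩ rfl, ← map_mul]
    exact (hβ _ _ c.symm).symm
  have b2 := hθ (d⁻¹ * ⟨g, hg⟩ * d)
  rw [map_mul β, map_mul β, map_inv β, bt w d hd] at b2
  have b3 := p3.tau v
  have b4 := (pm_Pm (F := F) (Equiv.swap 0 1 * Equiv.swap 5 6)).tau v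
  generalize (Multiplicative.ofAdd fun i => v.toAdd
    ((Equiv.swap 0 1 * Equiv.swap 5 6 : Equiv.Perm (Fin 7)).symm i) : VV 7) = v' at b3 b4
  obtain ⟨z, c1, c2⟩ := hb (θ (d⁻¹ * ⟨g, hg⟩ * d))
  rw [hx, w3, ← nela_comm h2, coe_mul, coe_mul, coe_inv, hd,
    show dg F 5 w * ((dg F 5 w)⁻¹ * g * dg F 5 w) * (dg F 5 w)⁻¹ = g by group, c] at c1
  rw [b1, show n * (τ (ex 2 w))⁻¹ * (β ⟨g, hg⟩ * (τ v)⁻¹) * (n * (τ (ex 2 w))⁻¹)⁻¹ =
    n * ((τ (ex 2 w))⁻¹ * β ⟨g, hg⟩ * τ (ex 2 w)) * n⁻¹ *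
      (n * (τ (ex 2 w))⁻¹ * τ v * (n * (τ (ex 2 w))⁻¹)⁻¹)⁻¹ by group, ← b2, b3, c2,
    ← m.tau v' ⟨_, τ₀_mem h2 _ 6⟩ rfl, ← map_inv, ← map_mul]
  refine congrArg φ (Subtype.ext ?_)
  rw [coe_mul, coe_inv, c1, e]
  change _ * (τ₀ F v')⁻¹ = _
  rw [← b4, ← n₀]
  group

end Cfsg.Agent.O7R
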