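import Mathlib
import Cfsg.Agent.O7R.G2

/-! S3101: an element interchanging `t 5` and `t 6`: the relations. -/

set_option autoImplicit false
set_option linter.unusedSectionVars false

namespace Cfsg.Agent.O7R

open Subgroup Cfsg.Agent.PLocal.Amb Cfsg.Agent.Lyons Cfsg.Agent.Class.Orth Cfsg.Agent.KSG QuadraticMap

variable {F : Type*} [Field F] [Fintype F] {G : Type*} [Group G] {τ : VV 7 →* G} {φ : Ln F 6 →* G}

/-- The two ways around the permutohedron: `w₀ = a b a c b a`. Path 1: `(aba)cba = bab z cba = ba(bcb)a z^{cba}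
= b(ac)b(ca) z^{cba} = bc(aba)c z^{cba} = bc bab c z^c z^{cba} = bcb abc z^c z^{cba}`. Path 2:
`ab(ac)ba = abc(aba) = a(bcb)ab z = (ac)b(ca)b z = c(aba)cb z = cba(bcb) z^{cb} z = cb(ac)bc z^{cb} z
= bcb abc z^{cb} z` (`z^g = g⁻¹ z g`). -/
theorem hexa {a b c z : G} (hac : a * c = c * a) (hbc : b * c * b = c * b * c)
    (hab : a * b * a = b * a * b * z) :
    (c⁻¹ * z * c) * ((c * b * a)⁻¹ * z * (c * b * a)) = ((c * b)⁻¹ * z * (c * b)) * z := by
  have hc : ∀ x, a * (c * x) = c * (a * x) := fun x => by rw [← mul_assoc, hac, mul_assoc]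
  have p1 : a * b * a * c * b * a = b * c * b * a * b * c * (c⁻¹ * z * c * ((c * b * a)⁻¹ * z * (c * b * a))) :=
    calc _ = b * a * (b * c * b) * a * ((c * b * a)⁻¹ * z * (c * b * a)) := by rw [hab]; group
      _ = b * c * (a * b * a) * c * ((c * b * a)⁻¹ * z * (c * b * a)) := by rw [hbc]; simp only [mul_assoc, hc]
      _ = _ := by rw [hab]; group
  have p2 : a * b * a * c * b * a = b * c * b * a * b * c * ((c * b)⁻¹ * z * (c * b) * z) :=
    calc _ = a * b * c * (a * b * a) := by simp only [mul_assoc, hc]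
      _ = a * (b * c * b) * a * b * z := by rw [hab]; group
      _ = c * (a * b * a) * c * b * z := by rw [hbc]; simp only [mul_assoc, hc]
      _ = c * b * a * (b * c * b) * ((c * b)⁻¹ * z * (c * b) * z) := by rw [hab]; group
      _ = c * b * c * a * b * c * ((c * b)⁻¹ * z * (c * b) * z) := by rw [hbc]; simp only [mul_assoc, hc]
      _ = _ := by rw [← hbc]
  exact mul_left_cancel (p1.symm.trans p2)

namespace NelB

theorem pm_bv' (σ : Equiv.Perm (Fin 7)) (y : OG (Qs F 7)) (j : Fin 7) :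
    (pm F 7 σ * y * (pm F 7 σ)⁻¹).1 (bv F j) = (pm F 7 σ).1 (y.1 (bv F (σ⁻¹ j))) := by
  rw [← map_inv, OG.mul_apply, OG.mul_apply, pm_bv]

theorem pm_Ln (h2 : (2 : F) ≠ 0) {σ : Equiv.Perm (Fin 7)} (h : Equiv.Perm.sign σ = 1) {k : ℕ}
    (hσ : ∀ j : Fin 7, k ≤ j → k ≤ (σ⁻¹ j : Fin 7)) {y : OG (Qs F 7)} (hy : y ∈ Ln F k) :
    pm F 7 σ * y * (pm F 7 σ)⁻¹ ∈ Ln F k :=
  ⟨mul_mem (mul_mem (pm_mem h2 h) hy.1) (inv_mem (pm_mem h2 h)), fun j hj => by
    rw [pm_bv']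
    rcases hy.2 _ (hσ j hj) with e | e <;> rw [e] <;> simp [pm_bv]⟩

theorem pm_comm (h2 : (2 : F) ≠ 0) {σ : Equiv.Perm (Fin 7)} {k : ℕ} (h1 : ∀ j : Fin 7, (j : ℕ) < k → σ⁻¹ j = j)
    (hσ : ∀ j : Fin 7, k ≤ j → k ≤ (σ⁻¹ j : Fin 7)) {y : OG (Qs F 7)} (hy : y ∈ Fx F k) :
    pm F 7 σ * y * (pm F 7 σ)⁻¹ = y := og_ext fun j => by
  rw [pm_bv']
  rcases lt_or_ge (j : ℕ) k with hj | hj
  · rw [h1 j hj]
    funext i
    rw [pm_apply]
    rcases lt_or_ge (i : ℕ) k with hi | hi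
    · exact congrArg _ (h1 i hi)
    · have z : ∀ i : Fin 7, k ≤ i → y.1 (bv F j) i = 0 := fun i hi =>
        Ln.zero h2 (Fx_le k hy) hi (Pi.single_eq_of_ne (fun e => by omega) _)
      rw [z i hi]; exact z _ (hσ i hi)
  · rw [hy.2 _ (hσ j hj), hy.2 j hj, pm_bv]; simp

theorem shape (k : ∀ v, τ v = 1 ↔ v = 1 ∨ v = al 7) {n : G} {σ : Equiv.Perm (Fin 7)} (a : Pm τ n σ) {v w : VV 7}
    (hc : Commute n (τ v)) (h2 : σ.symm 2 = 2)
    (h : (∀ i, v.toAdd (σ.symm i) = v.toAdd i) → (v = 1 ∨ v = al 7) ∨ v = w ∨ v = w * al 7) : τ v = 1 ∨ τ v = τ w := by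
  have := a.tau v
  rw [hc.eq, mul_inv_cancel_right] at this
  refine (h ?_).imp (k v).2 (tau_eq k).2
  rcases (tau_eq k).1 this.symm with e | e
  · exact fun i => congrFun (congrArg Multiplicative.toAdd e) i
  · have := congrFun (congrArg Multiplicative.toAdd e) 2
    simp [h2, al] at this

theorem comm_one {n : G} (a : Pm τ n 1) (v : VV 7) : Commute n (τ v) := mul_inv_eq_iff_eq_mul.1 (a.tau v)

end NelB

theorem Pm.eq {n : G} {σ σ' : Equiv.Perm (Fin 7)} (a : Pm τ n σ) (e : σ = σ') : Pm τ n σ' := e ▸ a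

open NelB

theorem Md.pm_of_act (hF : F35 F) (m : Md 𝐳[t τ 6] τ φ) {n : G}
    (h : ∀ y y' : Ln F 6, (y : OG (Qs F 7)) ∈ Ln F 5 → (y' : OG (Qs F 7)) = n₀ F * y * (n₀ F)⁻¹ →
      n * φ y * n⁻¹ = φ y') : Pm τ n (Equiv.swap 0 1 * Equiv.swap 5 6) := fun i => by
  have := h ⟨_, τ₀_mem hF.two_ne (ee i) 6⟩ ⟨_, τ₀_mem hF.two_ne (ee _) 6⟩ (τ₀_mem hF.two_ne _ 5) (pm_Pm _ i).symm
  rwa [m.tau _ _ rfl, m.tau _ _ rfl] at this

/-- `n₀` normalizes `Ln 5`, `n₀² = 1`, so `n²` centralizes `φ (Ln 5)`; `Md.cz` (`k = 5`): `n² = τ v` with `v`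
constant on `0, …, 4`, wlog (`al 7`) zero there; `n` commutes with `n²`, so `v 5 = v 6` (`Pm.tau`, `tau_eq`):
`n² ∈ {1, t 5 t 6}`. In the second case replace `n` by `n t 5` (`τ₀ (ee 5)` is central in `Ln 5`, `comm_t`).
Braid relation: `a = n`, `b = φ m₀`. `w = (a b)³` commutes with all `τ v` (`Pm.mul`, `Pm.pow`: `a b` induces a
three-cycle on `4, 5, 6`) and `a b` centralizes `φ (Fx 4)` (`m₀` normalizes `Fx 4`; `n₀ m₀ = pm (three-cycle)`
is a product of reflections in vectors orthogonal to `V₄`). `Md.cz` (`k = 4`) and `[w, a b] = 1` give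
`w ∈ {1, z}`, `z = t 4 t 5 t 6`. If `w = z` then `a b a = b a b z`; with `c = φ (pm (swap 0 1 * swap 3 4))`
(`pm … ∈ Fx 5` commutes with `n₀`) `hexa` gives `(t 3 t 5 t 6)(t 3 t 4 t 5) = (t 3 t 4 t 6)(t 4 t 5 t 6)`, i.e.
`t 3 t 4 t 5 t 6 = 1`, against `Md.ker`. -/
theorem Md.am (hF : F35 F) (m : Md 𝐳[t τ 6] τ φ)
    (h : ∃ n, ∀ y y' : Ln F 6, (y : OG (Qs F 7)) ∈ Ln F 5 → (y' : OG (Qs F 7)) = n₀ F * y * (n₀ F)⁻¹ →
      n * φ y * n⁻¹ = φ y') : ∃ n, Am φ n := by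
  have h2 := hF.two_ne
  have k := m.ker hF
  have nL : ∀ {y}, y ∈ Ln F 5 → n₀ F * y * (n₀ F)⁻¹ ∈ Ln F 5 := pm_Ln h2 (by decide) (by decide)
  have l5 : Ln F 5 ≤ Ln F 6 := Ln_mono (by omega)
  have nn : n₀ F * n₀ F = 1 := by rw [n₀, ← map_mul, show _ * _ = (1 : Equiv.Perm (Fin 7)) by decide, map_one]
  obtain ⟨n, sq, h⟩ : ∃ n, n * n = 1 ∧ ∀ y y' : Ln F 6, (y : OG (Qs F 7)) ∈ Ln F 5 →
      (y' : OG (Qs F 7)) = n₀ F * y * (n₀ F)⁻¹ → n * φ y * n⁻¹ = φ y' := by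
    obtain ⟨n, h⟩ := h
    have P := m.pm_of_act hF h
    have P2 : Pm τ (n * n) 1 := (P.mul P).eq (by decide)
    obtain ⟨v, e, hv⟩ := m.cz hF (k := 5) (by omega) (by omega)
      (mem_centralizer_singleton_iff.2 (comm_one P2 _)) (fun y hy => by
        have a := nL (Fx_le 5 hy)
        have b := h ⟨_, l5 a⟩ y a (by
          calc _ = n₀ F * n₀ F * y * (n₀ F * n₀ F)⁻¹ := by rw [nn]; group
            _ = _ := by group)
        rw [← h y ⟨_, l5 a⟩ (Fx_le 5 hy) rfl] at b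
        refine mul_inv_eq_iff_eq_mul.1 (Eq.trans ?_ b); group) (comm_one P2)
    rcases shape k P (v := v) (w := ee 5 * ee 6) (by rw [← e]; exact (Commute.refl n).mul_right (Commute.refl n))
      (by decide) (by revert hv; generalize v = v; revert v; decide +kernel) with a | a
    · exact ⟨n, e.trans a, h⟩
    · refine ⟨n * t τ 5, ?_, fun y y' hy e => ?_⟩
      · calc _ = n * t τ 5 * n⁻¹ * (n * n) * t τ 5 := by group
          _ = 1 := by
            rw [P, e, a, ← map_mul, ← map_mul, k]; decide +kernel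
      · have c : Commute (φ y) (t τ 5) := by
          rw [t, ← m.tau _ ⟨_, τ₀_mem h2 (ee 5) 6⟩ rfl]
          exact Commute.map (show Commute y _ from Subtype.ext ((comm_t h2 _ 5).2 (hy.2 5 le_rfl)).eq) φ
        rw [← h y y' hy e, mul_assoc n, ← c.eq]; group
  refine ⟨n, sq, h, fun b hb => ?_⟩
  have Pa := m.pm_of_act hF h
  have Pb := m.pm hF hb
  have Pab := Pa.mul Pb
  have P3 : Pm τ ((n * φ b) ^ 3) 1 := (Pab.pow 3).eq (by decide)
  have bb : φ b * φ b = 1 := by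
    rw [← map_mul, show b * b = 1 from Subtype.ext (by
      rw [coe_mul, hb, m₀, ← map_mul, show _ * _ = (1 : Equiv.Perm (Fin 7)) by decide, map_one]; rfl), map_one]
  have ni := inv_eq_of_mul_eq_one_left sq
  have bi := inv_eq_of_mul_eq_one_left bb
  obtain ⟨v, e, hv⟩ := m.cz hF (k := 4) (by omega) (by omega)
    (mem_centralizer_singleton_iff.2 (comm_one P3 _)) (fun y hy => by
      have a : (b * y * b⁻¹ : Ln F 6).1 ∈ Ln F 5 := by
        rw [coe_mul, coe_mul, coe_inv, hb]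
        exact Ln_mono (by omega) (pm_Ln h2 (by decide) (by decide) (Fx_le 4 hy))
      have := h _ y a (by
        refine (pm_comm h2 (σ := Equiv.swap 0 1 * Equiv.swap 5 6 * (Equiv.swap 0 1 * Equiv.swap 4 5))
          (by decide) (by decide) hy).symm.trans ?_
        rw [coe_mul, coe_mul, coe_inv, hb, map_mul (O7R.pm F 7), n₀, m₀]
        group)
      refine Commute.pow_left (mul_inv_eq_iff_eq_mul.1 (Eq.trans ?_ this)) 3
      simp only [map_mul, map_inv]; group) (comm_one P3)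
  have e1 : n * φ b * n = φ b * n * φ b * (τ v)⁻¹ := by
    rw [← e]
    calc _ = φ b * n * φ b * ((φ b)⁻¹ * n⁻¹ * (φ b)⁻¹ * n⁻¹ * (φ b)⁻¹ * n⁻¹) := by
          conv_lhs => rw [← ni, ← bi]
          group
      _ = _ := by rw [pow_three']; group
  rcases shape k Pab (v := v) (w := ee 4 * ee 5 * ee 6) (by rw [← e]; exact (Commute.refl _).pow_right 3)
    (by decide) (by revert hv; generalize v = v; revert v; decide +kernel) with a | a
  · rw [e1, a, inv_one, mul_one]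
  exfalso
  rw [a, inv_eq_of_mul_eq_one_left (tau_sq τ _)] at e1
  have c5 : O7R.pm F 7 (Equiv.swap 0 1 * Equiv.swap 3 4) ∈ Ln F 5 := Fx_le 5 (pm_mem_Fx h2 (by decide) (by decide))
  let c : Ln F 6 := ⟨_, l5 c5⟩
  have Pc := m.pm hF (y := c) rfl
  have := hexa (c := φ c) (mul_inv_eq_iff_eq_mul.1 (h c c c5 (by
      simp only [c, n₀, ← map_inv, ← map_mul]; congr 1; decide))) (by
    simp only [← map_mul]
    refine congrArg φ (Subtype.ext ?_)
    simp only [coe_mul, hb, c, m₀, ← map_mul]; congr 1; decide) e1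
  have i : ∀ {g σ}, Pm τ g σ → ∀ v, g⁻¹ * τ v * g = τ (Multiplicative.ofAdd fun i => v.toAdd (σ i)) := fun a v => by
    have := a.inv.tau v
    rwa [inv_inv] at this
  rw [i Pc, i ((Pc.mul Pb).mul Pa), i (Pc.mul Pb), ← map_mul τ, ← map_mul τ, tau_eq k] at this
  revert this
  decide +kernel

end Cfsg.Agent.O7R
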