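import Mathlib
import Cfsg.Agent.O7R.Up
import Cfsg.Agent.O7R.G1
import Cfsg.Agent.O7R.G2

/-! S3101: the local properties of the linear model. -/

set_option autoImplicit false
set_option linter.unusedSectionVars false

namespace Cfsg.Agent.O7R

open Subgroup Cfsg.Agent.PLocal.Amb Cfsg.Agent.Lyons Cfsg.Agent.Class.Orth Cfsg.Agent.KSG QuadraticMap

variable {F : Type*} [Field F] [Fintype F] {X : Type*} [Group X] [Finite X] {τ : VV 7 →* X}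
  {φ : Ln F 6 →* X}

theorem MdL.fix (h2 : (2 : F) ≠ 0) {g : OG (Qs F 7)} {n : ℕ} (hn : Odd n) (hg : g ^ n = 1) {j : Fin 7}
    (h : g.1 (bv F j) = bv F j ∨ g.1 (bv F j) = -bv F j) : g.1 (bv F j) = bv F j := by
  refine h.resolve_right fun e => h2 ?_
  obtain ⟨k, rfl⟩ := hn
  have a : ∀ k : ℕ, (g ^ (2 * k)).1 (bv F j) = bv F j := fun k => by
    induction k with
    | zero => rfl
    | succ k ih =>
      rw [mul_add, mul_one, pow_add, pow_two, OG.mul_apply, OG.mul_apply, e, map_neg, e, neg_neg, ih]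
  have b : (g ^ (2 * k + 1)).1 (bv F j) = -bv F j := by rw [pow_succ', OG.mul_apply, a, e]
  rw [hg] at b
  have c : bv F j j = -bv F j j := congrFun b j
  rw [bv, Pi.single_eq_same] at c
  linear_combination c

theorem MdL.ct (hF : F35 F) (m : Md ⊤ τ φ) (y : Ln F 6) (j : Fin 7) : φ y ∈ 𝐳[t τ j] ↔
    y.1.1 (bv F j) = bv F j ∨ y.1.1 (bv F j) = -bv F j := by
  rw [mem_cent, Commute.symm_iff, m.comm_tau hF (Ind.of y) y.2, comm_t hF.two_ne]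

theorem MdL.bal5 (hF : F35 F) (m : Md ⊤ τ φ) : oc 𝐳[t τ 5] = ⊥ := by
  have h2 := hF.two_ne
  have hN : ∀ y : Ln F 6, y.1 ∈ Ln F 5 → φ y ∈ 𝐍[oc 𝐳[t τ 5]] := fun y hy =>
    le_norm_oc _ ((MdL.ct hF m y 5).2 (hy.2 5 le_rfl))
  have h0 : ((oc 𝐳[t τ 5]).comap φ).map (Ln F 6).subtype = ⊥ := by
    refine Fx_odd h2 (.inl rfl) ?_ (le_normalizer_iff.2 ?_) ?_
    · rintro _ ⟨y, hy, rfl⟩
      have o := odd_orderOf (odd_oc _) hy
      rw [orderOf_injective φ m.inj, ← orderOf_coe] at o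
      refine ⟨y.2.1, fun j hj => MdL.fix h2 o (pow_orderOf_eq_one _) ?_⟩
      rcases (show j = 5 ∨ 6 ≤ (j : ℕ) by omega) with rfl | e
      · exact (MdL.ct hF m y 5).1 (oc_le _ hy)
      · exact y.2.2 j e
    · rintro x hx _ ⟨y, hy, rfl⟩
      have hx' := Fx_le 5 hx
      refine ⟨⟨x, Ln_mono (by omega) hx'⟩ * y * ⟨x, Ln_mono (by omega) hx'⟩⁻¹, ?_, rfl⟩
      rw [SetLike.mem_coe, mem_comap, map_mul, map_mul, map_inv]
      exact (mem_normalizer_iff.1 (hN ⟨x, _⟩ hx') _).1 hy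
    · rw [card_map_of_injective (Ln F 6).subtype_injective]
      exact (odd_oc _).of_dvd_nat (card_comap_dvd_of_injective _ φ m.inj)
  refine (eq_bot_iff_forall _).2 fun p hp => ?_
  have hc : ∀ y : Ln F 6, y.1 ∈ Ln F 5 → Commute p (φ y) := fun y hy => by
    obtain ⟨y', e⟩ : p * φ y * p⁻¹ * (φ y)⁻¹ ∈ φ.range :=
      mul_mem ((mem_normalizer_iff.1 (m.norm (mem_top p)) _).1 ⟨y, rfl⟩) (inv_mem ⟨y, rfl⟩)
    have e1 : φ y' ∈ oc 𝐳[t τ 5] := by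
      rw [e, mul_assoc, mul_assoc, ← mul_assoc (φ y)]
      exact mul_mem hp ((mem_normalizer_iff.1 (hN y hy) _).1 (inv_mem hp))
    have e2 : y' = 1 := Subtype.ext (mem_bot.1 (h0.le ⟨y', e1, rfl⟩))
    rw [e2, map_one, eq_comm, mul_inv_eq_one, mul_inv_eq_iff_eq_mul] at e
    exact e
  obtain ⟨v, rfl, -⟩ := m.cz hF (k := 5) (by omega) (by omega) (mem_top p)
    (fun y hy => hc y (Fx_le 5 hy)) fun v => by
      rw [← m.tau v ⟨_, τ₀_mem h2 v 6⟩ rfl]; exact hc _ (τ₀_mem h2 v 5)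
  exact eq_one_of_odd (range_pg τ) ⟨v, rfl⟩ (odd_orderOf (odd_oc _) hp)

theorem MdL.perm : ∀ j : Fin 7, j ≠ 6 → ∃ p : Equiv.Perm (Fin 7), Equiv.Perm.sign p = 1 ∧ p 5 = j ∧
    ∀ i : Fin 7, 6 ≤ (i : ℕ) → p i = i := fun j hj => by
  fin_cases j
  · exact ⟨Equiv.swap 5 0 * Equiv.swap 1 2, by decide⟩
  · exact ⟨Equiv.swap 5 1 * Equiv.swap 0 2, by decide⟩
  · exact ⟨Equiv.swap 5 2 * Equiv.swap 0 1, by decide⟩
  · exact ⟨Equiv.swap 5 3 * Equiv.swap 0 1, by decide⟩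
  · exact ⟨Equiv.swap 5 4 * Equiv.swap 0 1, by decide⟩
  · exact ⟨1, by decide⟩
  · exact absurd rfl hj

/-- `bal`: conjugating by `φ (pm p)` (`Md.pm`, `p` even, `p 5 = j`, `p 6 = 6`) reduce to `j = 5`. Let
`P = O(C(t 5))`. Its preimage `P₀ ≤ Ln 6` under `φ` is odd and commutes with `τ₀ (ee 5)`, so it fixes `±e₅`, `±e₆`
(`comm_t`), and being odd it lies in `Fx 5`; it is normalized by `Fx 5` (`φ (Fx 5) ≤ C(t 5)`), so `P₀ = ⊥`
(`Fx_odd`). For `p ∈ P` and `y ∈ Ln 5`, `[p, φ y] ∈ P ⊓ φ.range` (`Md.norm`), so `p` centralizes `φ (Ln 5)`,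
which contains all `τ v`; `Md.cz` gives `p = τ v`, `p² = 1`, `p = 1`.
`sep`: `Md.comm_tau`, `sepC`. `gen`: `Md.dec`; a field automorphism centralizes all `τ v`; `gen_step` twice gives
`Ln 6 ≤ (N(τ₀.range) ⊓ Ln 6) ⊔ Ln 4`, and `φ` maps these into `N(τ.range)` and `C(t 4) ⊓ C(t 5)`. -/
theorem Md.lh (hF : F35 F) (m : Md ⊤ τ φ) : LH τ := by
  have h2 := hF.two_ne
  refine ⟨fun j hj => ?_, fun W _ j hs h hh => ?_, top_le_iff.1 fun h _ => ?_⟩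
  · obtain ⟨p, p1, rfl, p3⟩ := MdL.perm j hj
    rw [← m.pm hF (y := ⟨_, Fx_le 6 (pm_mem_Fx h2 p1 p3)⟩) rfl 5, centralizer_singleton_conj, oc_cj,
      MdL.bal5 hF m, cj_bot]
  · obtain ⟨g, hg, σ, a⟩ := m.ind h (mem_top h)
    refine mem_cent.2 ((m.comm_tau hF a hg _).2 (sepC h2 hg j fun k k1 k2 => ?_)).symm
    obtain ⟨v, hv, ne⟩ := hs k k1 k2
    exact ⟨v, (m.comm_tau hF a hg v).1 (hh _ hv).symm, ne⟩
  obtain ⟨y, σ, a⟩ := m.dec (mem_top h)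
  rw [← mul_inv_cancel_left (φ y) h]
  refine mul_mem ?_ (mem_sup_left (centralizer_le_normalizer _ ?_))
  · have k1 : ∀ k, k ≤ 6 → 𝐍[(τ₀ F).range] ⊓ Ln F k ≤ ((𝐍[τ.range] ⊔ 𝐳[t τ 4] ⊓ 𝐳[t τ 5]).comap φ).map
        (Ln F 6).subtype := fun k hk g hg => by
      refine ⟨⟨g, Ln_mono hk hg.2⟩, mem_sup_left (mem_normalizer_of_cj_le
        (cj_le_iff_forall.2 ?_)), rfl⟩
      rintro _ ⟨v, rfl⟩
      obtain ⟨w, e⟩ := (mem_normalizer_iff.1 hg.1 _).1 ⟨v, rfl⟩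
      refine ⟨w, ?_⟩
      rw [← m.tau v ⟨_, τ₀_mem h2 v 6⟩ rfl, ← map_inv, ← map_mul, ← map_mul]
      exact (m.tau w _ e.symm).symm
    have k2 : Ln F 6 ≤ ((𝐍[τ.range] ⊔ 𝐳[t τ 4] ⊓ 𝐳[t τ 5]).comap φ).map (Ln F 6).subtype :=
      (gen_step h2 (.inr rfl)).trans (sup_le (k1 6 le_rfl) ((gen_step h2 (.inl rfl)).trans
        (sup_le (k1 5 (by omega)) fun g hg => ⟨⟨g, Ln_mono (by omega) hg⟩, mem_sup_right
          ⟨(MdL.ct hF m _ 4).2 (hg.2 4 le_rfl), (MdL.ct hF m _ 5).2 (hg.2 5 (by decide))⟩, rfl⟩)))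
    obtain ⟨y', e1, e2⟩ := k2 y.2
    rwa [← show y' = y from Subtype.ext e2]
  · rintro _ ⟨v, rfl⟩
    exact ((m.comm_tau hF a (one_mem _) v).2 (Commute.one_left _)).symm

end Cfsg.Agent.O7R
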