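import Mathlib
import Cfsg.Agent.O7R.Up

/-! S3101: the even part of `A` is a group of diagonal matrices. -/

set_option autoImplicit false
set_option linter.unusedSectionVars false

namespace Cfsg.Agent.O7R

open Subgroup Cfsg.Agent.PLocal.Amb Cfsg.Agent.Lyons Cfsg.Agent.Class.Orth Cfsg.Agent.KSG QuadraticMap

variable {F : Type*} [Field F] [Fintype F] {X : Type*} [Group X] {τ : VV 7 →* X} {β : Om F 6 →* X}

/-- `Id` does not depend on the coordinates -/
theorem Id.comp (d : Id τ β) (θ : MulAut (Om F 6)) : Id τ (β.comp θ.toMonoidHom) := by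
  have hr : (β.comp θ.toMonoidHom).range = β.range := by
    ext x
    exact ⟨fun ⟨k, e⟩ => ⟨θ k, e⟩, fun ⟨k, e⟩ => ⟨θ.symm k, by simpa using e⟩⟩
  refine ⟨d.inj.comp θ.injective, hr ▸ d.nor, d.zc, fun h hh => d.cen h fun k => ?_, d.ker,
    hr ▸ d.mem, hr ▸ d.odd, fun σ h1 h2 => ?_, d.nc⟩
  · simpa using hh (θ.symm k)
  · obtain ⟨k, hk⟩ := d.alt σ h1 h2
    exact ⟨θ.symm k, by simpa using hk⟩

theorem frm_eig {V ι : Type*} [AddCommGroup V] [Module F V] {Q : QuadraticForm F V} (h2 : (2 : F) ≠ 0)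
    (s : ι → OG Q) (hc : ∀ i j, Commute (s i) (s j)) (hs : ∀ i, s i * s i = 1) {x₀ : V} (h0 : Q x₀ ≠ 0)
    (S : Finset ι) : ∃ x, Q x ≠ 0 ∧ ∀ i ∈ S, ∃ a : ZMod 2, (s i).1 x = sg F a • x := by
  classical
  induction S using Finset.induction_on with
  | empty => exact ⟨x₀, h0, by simp⟩
  | insert j S hj ih =>
    obtain ⟨x, hx, h⟩ := ih
    have e1 : (s j).1 ((s j).1 x) = x := by rw [← OG.mul_apply, hs, OG.one_apply]
    have e2 : ∀ i (a : F), (s i).1 x = a • x → (s i).1 ((s j).1 x) = a • (s j).1 x := fun i a e => by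
      rw [← OG.mul_apply, (hc i j).eq, OG.mul_apply, e, map_smul]
    by_cases hq : Q (x + (s j).1 x) = 0
    · refine ⟨x - (s j).1 x, fun hq' => hx ?_, fun i hi => ?_⟩
      · rw [Q_add, OG.map_Q] at hq
        rw [Q_sub, OG.map_Q] at hq'
        have : (2 * 2 : F) * Q x = 0 := by linear_combination hq + hq'
        exact (mul_eq_zero.1 this).resolve_left (mul_ne_zero h2 h2)
      · rcases Finset.mem_insert.1 hi with rfl | hi
        · exact ⟨1, by rw [map_sub, e1, sg_one]; simp⟩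
        · obtain ⟨a, ha⟩ := h i hi
          exact ⟨a, by rw [map_sub, ha, e2 i _ ha, smul_sub]⟩
    · refine ⟨_, hq, fun i hi => ?_⟩
      rcases Finset.mem_insert.1 hi with rfl | hi
      · exact ⟨0, by rw [map_add, e1, sg_zero, one_smul, add_comm]⟩
      · obtain ⟨a, ha⟩ := h i hi
        exact ⟨a, by rw [map_add, ha, e2 i _ ha, smul_add]⟩

theorem frm_sg_inj (h2 : (2 : F) ≠ 0) {a b : ZMod 2} (h : sg F a = sg F b) : a = b := by
  have k : ∀ a : ZMod 2, a = 0 ∨ a = 1 := by decide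
  have n : (1 : F) ≠ -1 := fun e => h2 (by linear_combination e)
  rcases k a with rfl | rfl <;> rcases k b with rfl | rfl <;> simp_all [sg_zero, sg_one, eq_comm]

theorem frm_sg_ne {a b : ZMod 2} (h : a ≠ b) : sg F a * sg F b = -1 := by
  have k : ∀ a b : ZMod 2, a ≠ b → a + b = 1 := by decide
  rw [← sg_add, k a b h, sg_one]

/-- `x` is an eigenvector for the character `l` -/
def FrmE (τ : VV 7 →* X) (β : Om F 6 →* X) (x : Fin 6 → F) (l : Fin 7 → ZMod 2) : Prop :=
  ∀ (w : VV 7) (k : Om F 6), β k = τ w → (k : OG (Qs F 6)).1 x = sg F (∑ i, l i * w.toAdd i) • x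

/-- the projection onto the even vectors -/
def frmP : VV 7 →* VV 7 := MonoidHom.mk' (fun v => Multiplicative.ofAdd
    (v.toAdd + Pi.single 0 (v.toAdd 6 + ∑ i, v.toAdd i)))
  fun a b => Multiplicative.toAdd.injective (by
    simp only [toAdd_mul, toAdd_ofAdd, Pi.add_apply, Finset.sum_add_distrib]
    rw [add_add_add_comm (a.toAdd 6), Pi.single_add, add_add_add_comm])

theorem frmP_ev (v : VV 7) : (frmP v).toAdd 6 = ∑ i, (frmP v).toAdd i := by
  simp only [frmP, MonoidHom.mk'_apply, toAdd_ofAdd, Pi.add_apply, Finset.sum_add_distrib,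
    Finset.sum_pi_single', Finset.mem_univ, if_true]
  rw [Pi.single_eq_of_ne (by decide), add_zero, add_left_comm, CharTwo.add_self_eq_zero, add_zero]

theorem frmP_of {v : VV 7} (h : v.toAdd 6 = ∑ i, v.toAdd i) : frmP v = v := by
  simp only [frmP, MonoidHom.mk'_apply, h, CharTwo.add_self_eq_zero, Pi.single_zero, add_zero,
    ofAdd_toAdd]

theorem Id.frm_ex (h2 : (2 : F) ≠ 0) (d : Id τ β) : ∃ x l, Qs F 6 x ≠ 0 ∧ FrmE τ β x l := by
  have hk : ∀ v, ∃ k, β k = τ (frmP v) := fun v => (d.mem _).2 (frmP_ev v)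
  choose k hk using hk
  have km : ∀ a b, k (a * b) = k a * k b := fun a b => d.inj (by rw [map_mul, hk, hk, hk, map_mul, map_mul])
  have k1 : k 1 = 1 := d.inj (by rw [hk, map_one, map_one, map_one])
  obtain ⟨x, hx, h⟩ := frm_eig h2 (fun i : Fin 7 => (k (ee i) : OG (Qs F 6)))
    (fun i j => by
      rw [commute_iff_eq, ← Subgroup.coe_mul, ← Subgroup.coe_mul, ← km, ← km, mul_comm])
    (fun i => by
      rw [← Subgroup.coe_mul, d.inj (a₂ := 1) (by rw [map_mul, hk, tau_sq, map_one] :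
        β (k (ee i) * k (ee i)) = β 1), Subgroup.coe_one])
    (x₀ := bv F 0) (by rw [Qs_bv]; exact one_ne_zero) Finset.univ
  choose l hl using fun i => h i (Finset.mem_univ i)
  refine ⟨x, l, hx, fun w k' e => ?_⟩
  have e' : k' = k w := d.inj (by rw [e, hk, frmP_of ((d.mem w).1 ⟨k', e⟩)])
  rw [e']
  refine vv_ind (P := fun w => (k w : OG (Qs F 6)).1 x = sg F (∑ i, l i * w.toAdd i) • x) ?_
    (fun a b ha hb => ?_) (fun i => ?_) w
  · simp [k1, sg_zero]
  · simp only [km, Subgroup.coe_mul, toAdd_mul, Pi.add_apply, mul_add, Finset.sum_add_distrib, sg_add]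
    rw [LinearEquiv.mul_apply, hb, map_smul, ha, smul_smul, mul_comm]
  · rw [hl i]
    simp [ee, Pi.single_apply]

theorem FrmE.conj {x : Fin 6 → F} {l : Fin 7 → ZMod 2} (h : FrmE τ β x l) {k : Om F 6}
    {σ : Equiv.Perm (Fin 7)} (hk : Pm τ (β k) σ) : FrmE τ β ((k : OG (Qs F 6)).1 x) (l ∘ σ.symm) := by
  intro w k' e
  have e1 := hk.inv.tau w
  rw [inv_inv, ← e, ← map_inv, ← map_mul, ← map_mul] at e1
  have e2 := h _ _ e1
  rw [(Om F 6).coe_mul, (Om F 6).coe_mul, OG.mul_apply, OG.mul_apply, (Om F 6).coe_inv,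
    OG.inv_apply_eq_iff, map_smul] at e2
  rw [e2, ← Equiv.sum_comp σ fun i => (l ∘ σ.symm) i * w.toAdd i]
  simp [Equiv.Perm.inv_def]

/-- the annihilator of the even vectors -/
def frmM : Fin 7 → ZMod 2 := ![1, 1, 1, 1, 1, 1, 0]

theorem Id.frm_add (d : Id τ β) {x : Fin 6 → F} {l : Fin 7 → ZMod 2} (h : FrmE τ β x l) (a : ZMod 2) :
    FrmE τ β x (l + a • frmM) := by
  intro w k e
  have e1 := (d.mem w).1 ⟨k, e⟩
  rw [h w k e]
  congr 2
  simp only [Fin.sum_univ_seven, Pi.add_apply, Pi.smul_apply, smul_eq_mul] at e1 ⊢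
  simp only [frmM, Matrix.cons_val_zero, Matrix.cons_val_one, Matrix.cons_val]
  linear_combination a * e1

theorem Id.frm_orth (h2 : (2 : F) ≠ 0) (d : Id τ β) {x y : Fin 6 → F} {l m : Fin 7 → ZMod 2}
    (h : FrmE τ β x l) (h' : FrmE τ β y m) {i j : Fin 7} (hi : i ≠ 6) (hj : j ≠ 6)
    (hn : l i + l j ≠ m i + m j) : polar (Qs F 6) x y = 0 := by
  obtain ⟨k, hk⟩ := (d.mem (ee i * ee j)).2 (by
    simp only [ee, toAdd_mul, toAdd_ofAdd, Pi.add_apply, Finset.sum_add_distrib, Finset.sum_pi_single',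
      Finset.mem_univ, if_true, Pi.single_eq_of_ne hi.symm, Pi.single_eq_of_ne hj.symm]
    decide)
  have e : ∀ l : Fin 7 → ZMod 2, ∑ p, l p * (ee i * ee j : VV 7).toAdd p = l i + l j := fun l => by
    simp [ee, mul_add, Finset.sum_add_distrib, Pi.single_apply]
  have e1 := OG.map_polar (k : OG (Qs F 6)) x y
  rw [h _ _ hk, h' _ _ hk, polar_smul_left', polar_smul_right', ← mul_assoc, e, e, frm_sg_ne hn] at e1
  have : (2 : F) * polar (Qs F 6) x y = 0 := by linear_combination -e1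
  exact (mul_eq_zero.1 this).resolve_left h2

theorem Id.frm_six (h2 : (2 : F) ≠ 0) (d : Id τ β) {x : Fin 6 → F} {l : Fin 7 → ZMod 2}
    (h : FrmE τ β x l) (hx : x ≠ 0) : l 6 = 1 ∧ ∑ i, l i = 0 := by
  constructor
  · obtain ⟨k, hk⟩ := (d.mem (ee 6)).2 (by decide)
    have hz : k ∈ center (Om F 6) := Subgroup.mem_center_iff.2 fun g => d.inj (by
      rw [map_mul, map_mul, hk]; exact d.zc _)
    rcases ((nd_Qs h2 6).mem_center_Omega (by simp) k).1 hz with e | e
    · have : τ (ee 6) = 1 := by rw [← hk, show k = 1 from Subtype.ext e, map_one]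
      exact absurd ((d.ker _).1 this) (by decide)
    · have e1 := h _ _ hk
      rw [e, negOne_apply, ← neg_one_smul F x, ← sg_one] at e1
      have e2 := frm_sg_inj h2 (smul_left_injective F hx e1)
      simpa [ee, Pi.single_apply] using e2.symm
  · have e1 := h (al 7) 1 (by rw [map_one, (d.ker _).2 (Or.inr rfl)])
    rw [Subgroup.coe_one, OG.one_apply] at e1
    have e3 : sg F 0 • x = sg F (∑ i, l i * (al 7).toAdd i) • x := by rw [sg_zero, one_smul]; exact e1
    have e2 := frm_sg_inj h2 (smul_left_injective F hx e3)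
    simpa [al] using e2.symm

theorem Id.frm_swap (d : Id τ β) {x : Fin 6 → F} {l : Fin 7 → ZMod 2} (h : FrmE τ β x l) {i j : Fin 7}
    (hi : i ≠ 6) (hj : j ≠ 6) : ∃ y, Qs F 6 y = Qs F 6 x ∧ FrmE τ β y (l ∘ Equiv.swap i j) := by
  by_cases e : i = j
  · exact ⟨x, rfl, by simpa [e] using h⟩
  obtain ⟨p, q, hp, hq, hpq, hl⟩ : ∃ p q : Fin 7, p ≠ 6 ∧ q ≠ 6 ∧ p ≠ q ∧ l p = l q := by
    have k : ∀ a b c : ZMod 2, a = b ∨ a = c ∨ b = c := by decide
    rcases k (l 0) (l 1) (l 2) with e | e | e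
    exacts [⟨0, 1, by decide, by decide, by decide, e⟩, ⟨0, 2, by decide, by decide, by decide, e⟩,
      ⟨1, 2, by decide, by decide, by decide, e⟩]
  obtain ⟨k, hk⟩ := d.alt (Equiv.swap i j * Equiv.swap p q) (by simp [e, hpq]) (by
    rw [Equiv.Perm.mul_apply, Equiv.swap_apply_of_ne_of_ne hp.symm hq.symm,
      Equiv.swap_apply_of_ne_of_ne hi.symm hj.symm])
  refine ⟨_, OG.map_Q _ _, (congrArg _ ?_).mp (h.conj hk)⟩
  funext r
  rw [← Equiv.Perm.inv_def, mul_inv_rev, Equiv.swap_inv, Equiv.swap_inv]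
  exact Equiv.apply_swap_eq_self hl _

/-- the normalised neighbours of a character -/
def frmN (l : Fin 7 → ZMod 2) (p : Fin 6 × Fin 6) : Fin 7 → ZMod 2 :=
  l ∘ Equiv.swap p.1.castSucc p.2.castSucc + l (Equiv.swap p.1.castSucc p.2.castSucc 0) • frmM

theorem frm_dec : ∀ a b c d e f : ZMod 2, a + b + c + d + e + f + 1 = 0 →
    6 < (Finset.univ.image (frmN ![a, b, c, d, e, f, 1])).card ∨ ∀ i : Fin 6, ∃ p,
      frmN ![a, b, c, d, e, f, 1] p + (if i = 0 then 1 else 0 : ZMod 2) • frmM =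
        Pi.single i.castSucc 1 + Pi.single 6 1 := by
  decide +kernel

theorem frmN_zero (l : Fin 7 → ZMod 2) (p : Fin 6 × Fin 6) : frmN l p 0 = 0 := by
  simp [frmN, frmM, CharTwo.add_self_eq_zero]

theorem frmN_six (l : Fin 7 → ZMod 2) (p : Fin 6 × Fin 6) : frmN l p 6 = l 6 := by
  have e : Equiv.swap p.1.castSucc p.2.castSucc (6 : Fin 7) = 6 :=
    Equiv.swap_apply_of_ne_of_ne (Fin.castSucc_ne_last p.1).symm (Fin.castSucc_ne_last p.2).symm
  simp [frmN, frmM, e]

theorem Id.frm_basis (h2 : (2 : F) ≠ 0) (d : Id τ β) : ∃ (c : F) (x : Fin 6 → Fin 6 → F), c ≠ 0 ∧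
    ∀ i, Qs F 6 (x i) = c ∧ FrmE τ β (x i) (Pi.single i.castSucc 1 + Pi.single 6 1) := by
  obtain ⟨x, l, hx, h⟩ := d.frm_ex h2
  obtain ⟨h6, hs⟩ := d.frm_six h2 h (fun e => hx (by rw [e, map_zero]))
  have hN : ∀ p, ∃ y, Qs F 6 y = Qs F 6 x ∧ FrmE τ β y (frmN l p) := fun p => by
    obtain ⟨y, h1, h3⟩ := d.frm_swap h (Fin.castSucc_ne_last p.1) (Fin.castSucc_ne_last p.2)
    exact ⟨y, h1, d.frm_add h3 _⟩
  have el : l = ![l 0, l 1, l 2, l 3, l 4, l 5, 1] := by
    funext i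
    fin_cases i <;> first | rfl | exact h6
  have hd := frm_dec (l 0) (l 1) (l 2) (l 3) (l 4) (l 5) (by rwa [Fin.sum_univ_seven, h6] at hs)
  rw [← el] at hd
  rcases hd with hd | hd
  · exfalso
    have hy : ∀ m : Finset.univ.image (frmN l), ∃ y, Qs F 6 y = Qs F 6 x ∧ FrmE τ β y m ∧
        m.1 0 = 0 ∧ m.1 6 = l 6 := fun m => by
      obtain ⟨p, -, e⟩ := Finset.mem_image.1 m.2
      obtain ⟨y, h1, h3⟩ := hN p
      exact ⟨y, h1, e ▸ h3, e ▸ frmN_zero l p, e ▸ frmN_six l p⟩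
    choose y y1 y2 y3 y4 using hy
    have li : LinearIndependent F y := by
      refine LinearMap.linearIndependent_of_isOrthoᵢ (B := polarBilin (Qs F 6)) (fun m m' ne => ?_)
        fun m e => ?_
      · obtain ⟨i, hi⟩ := Function.ne_iff.1 (Subtype.coe_ne_coe.2 ne)
        refine d.frm_orth h2 (y2 m) (y2 m') (i := i) (j := 0) (fun e => hi ?_) (by decide) ?_
        · rw [e, y4, y4]
        · rwa [y3, y3, add_zero, add_zero]
      · have e' : polar (Qs F 6) (y m) (y m) = 0 := e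
        rw [polar_self', y1] at e'
        exact mul_ne_zero h2 hx e'
    have := li.fintype_card_le_finrank
    rw [Fintype.card_coe, Module.finrank_fin_fun] at this
    omega
  · choose p hp using hd
    choose y y1 y2 using hN
    exact ⟨_, fun i => y (p i), hx, fun i => ⟨y1 _, hp i ▸ d.frm_add (y2 _) _⟩⟩

/-- For `v : VV 6` of even weight let `a v ∈ Ω₆` be the element with `β (a v) = τ (ex 1 v)` (`mem`); `a` is
an injective homomorphism on the even vectors, and `a (al 6) = -1`: `τ (ex 1 (al 6)) = t 6` (`ker`) is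
central (`zc`), `≠ 1`, `ND.mem_center_Omega`. There is a common eigenvector `x ≠ 0` of the commuting
involutions `a v`, with character `v ↦ sg (∑ l i * v i)`, `l : Fin 6 → ZMod 2` (determined up to `l + 1`),
`∑ l = 1`. By `alt`, for every even `σ` fixing `6` some `k ∈ Ω₆` maps `x` to an eigenvector for `l ∘ σ⁻¹`
(`Pm.tau`). Eigenvectors for different characters are linearly independent (apply `1 ± a v`), and
orthogonal. If `l` has weight `3` we get `10 > 6` independent vectors (`7` suffice). So (replace `l` by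
`l + 1`) `l = single i 1`, and we get `xᵢ = kᵢ x`, `i < 6`, pairwise orthogonal of the same norm `c`, a basis;
`c ≠ 0` by non-degeneracy. The linear map `T : xᵢ ↦ eᵢ` is a similarity (`SS.ofLin`) with
`cj T (a v) = dg v`; `cj T` restricts to an automorphism of `Ω₆`; `β' = β ∘ (cj T)⁻¹`. -/
theorem Id.frame (hF : F35 F) (d : Id τ β) : ∃ β' : Om F 6 →* X, Id τ β' ∧
    ∀ (v : VV 6) (k : Om F 6), (k : OG (Qs F 6)) = dg F 6 v → β' k = τ (ex 1 v) := by
  have h2 := hF.two_ne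
  obtain ⟨c, x, hc, hx⟩ := d.frm_basis h2
  have ho : ∀ i j, i ≠ j → polar (Qs F 6) (x i) (x j) = 0 := fun i j ne => by
    have k : ∀ i j : Fin 6, i ≠ j → ∃ r : Fin 6, r ≠ i ∧ r ≠ j := by decide
    obtain ⟨r, r1, r2⟩ := k i j ne
    refine d.frm_orth h2 (hx i).2 (hx j).2 (Fin.castSucc_ne_last i) (Fin.castSucc_ne_last r) ?_
    simp [Pi.single_apply, ne, r1, r2]
  obtain ⟨T, hT⟩ : ∃ T : (Fin 6 → F) →ₗ[F] (Fin 6 → F), ∀ y, T y = ∑ i, y i • x i :=
    ⟨Fintype.linearCombination F x, fun y => Fintype.linearCombination_apply _ _ _⟩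
  have Tb : ∀ i, T (bv F i) = x i := fun i => by simp [hT, bv, Pi.single_apply]
  have Tp : ∀ y j, polar (Qs F 6) (T y) (x j) = y j * (2 * c) := fun y j => by
    rw [hT, ← polarBilin_apply_apply, map_sum, LinearMap.sum_apply, Finset.sum_eq_single j]
    · rw [polarBilin_apply_apply, polar_smul_left', polar_self', (hx j).1]
    · intro i _ ne
      rw [polarBilin_apply_apply, polar_smul_left', ho i j ne, mul_zero]
    · simp
  have TQ : ∀ y, Qs F 6 (T y) = c * Qs F 6 y := fun y => by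
    refine mul_left_cancel₀ h2 ?_
    rw [← polar_self']
    conv_lhs => rw [← polarBilin_apply_apply, show polarBilin (Qs F 6) (T y) (T y) =
      polarBilin (Qs F 6) (T y) (∑ i, y i • x i) by rw [← hT], map_sum]
    simp only [polarBilin_apply_apply, polar_smul_right', Tp, Qs_apply, Finset.mul_sum]
    exact Finset.sum_congr rfl fun i _ => by ring
  have Ti : Function.Injective T := (injective_iff_map_eq_zero T).2 fun y e => funext fun j => by
    have := Tp y j
    rw [e, polar_zero_left] at this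
    exact (mul_eq_zero.1 this.symm).resolve_right (mul_ne_zero h2 hc)
  obtain ⟨U, hU⟩ : ∃ U : (Fin 6 → F) ≃ₗ[F] (Fin 6 → F), ∀ y, U y = T y :=
    ⟨LinearEquiv.ofInjectiveEndo T Ti, fun _ => rfl⟩
  have UQ : ∀ y, Qs F 6 (U y) = c * Qs F 6 y := fun y => by rw [hU, TQ]
  refine ⟨_, d.comp (MulAut.characteristic (Om F 6) (OG.congrSim U c hc UQ)), fun v k e => ?_⟩
  have hv : ∑ i, v.toAdd i = 0 := (dg_mem h2 v).1 (e ▸ k.2)
  have v1 : ∀ i : Fin 6, (ex 1 v).toAdd i.castSucc = v.toAdd i := fun i => Fin.append_left _ _ i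
  have v6 : (ex 1 v).toAdd (6 : Fin 7) = 0 := Fin.append_right v.toAdd (0 : Fin 1 → ZMod 2) 0
  obtain ⟨k', hk⟩ := (d.mem (ex 1 v)).2 (by
    rw [Fin.sum_univ_castSucc]
    simp only [v1, hv, zero_add]
    rfl)
  rw [← hk]
  refine congrArg β (Subtype.ext (OG.ext fun y => ?_))
  obtain ⟨y, rfl⟩ := U.surjective y
  change (OG.congrSim U c hc UQ k).1 (U y) = _
  rw [OG.congrSim_apply, U.symm_apply_apply, e, hU, hU, hT, hT, map_sum]
  refine Finset.sum_congr rfl fun i _ => ?_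
  rw [map_smul, (hx i).2 _ _ hk, smul_smul, dg_apply, mul_comm]
  congr 3
  simp [add_mul, Finset.sum_add_distrib, Pi.single_apply, v1, v6]

end Cfsg.Agent.O7R
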