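import Mathlib
import Cfsg.Agent.O7R.Frm
import Cfsg.Agent.O7R.Aut
import Cfsg.Agent.O7R.G1
import Cfsg.Agent.O7R.G2

/-! S3101: construction of the linear model. -/

set_option autoImplicit false
set_option linter.unusedSectionVars false

namespace Cfsg.Agent.O7R

open Subgroup Cfsg.Agent.PLocal.Amb Cfsg.Agent.Lyons Cfsg.Agent.Class.Orth Cfsg.Agent.KSG QuadraticMap

variable {F : Type*} [Field F] [Fintype F] {X : Type*} [Group X] [Finite X] {τ : VV 7 →* X}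
  {β : Om F 6 →* X}

/-- `h` acts on the image of `β` as the semisimilarity `x` -/
def Ac (β : Om F 6 →* X) (h : X) (x : SS (Qs F 6)) : Prop :=
  ∀ k k' : Om F 6, (k' : OG (Qs F 6)) = SS.cj _ x k → h * β k * h⁻¹ = β k'

section Ac
variable {h h' : X} {x x' : SS (Qs F 6)}

theorem Ac.ex (a : Ac β h x) (k : Om F 6) :
    ∃ k' : Om F 6, (k' : OG (Qs F 6)) = SS.cj _ x k ∧ h * β k * h⁻¹ = β k' :=
  ⟨⟨_, (SS.cj_mem_commutator x _).2 k.2⟩, rfl, a k _ rfl⟩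

theorem Ac.congr (a : Ac β h x) (e : ∀ k, SS.cj _ x' k = SS.cj _ x k) : Ac β h x' :=
  fun k k' c => a k k' (c.trans (e k))

theorem Ac.mul (a : Ac β h x) (b : Ac β h' x') : Ac β (h * h') (x * x') := fun k k' e => by
  obtain ⟨l, e1, e2⟩ := b.ex k
  rw [← a l k' (by rw [e, e1, map_mul]; rfl), ← e2]
  group

theorem Ac.inv' (a : Ac β h x) (e : ∀ k, SS.cj _ x (SS.cj _ x' k) = k) : Ac β h⁻¹ x' := fun k k' c => by
  rw [← a k' k (by rw [c, e])]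
  group

theorem Ac.inv (a : Ac β h x) : Ac β h⁻¹ x⁻¹ := a.inv' fun k => by
  rw [← MulAut.mul_apply, ← map_mul, mul_inv_cancel, map_one, MulAut.one_apply]

theorem Ac.of (k : Om F 6) : Ac β (β k) (SS.oO _ k) := fun l l' e => by
  rw [SS.cj_oO] at e
  rw [show l' = k * l * k⁻¹ from Subtype.ext e, map_mul, map_mul, map_inv]

theorem Ac.sO (a : Ac β h x) (c : Fˣ) : Ac β h (SS.sO _ c * x) :=
  a.congr fun k => by rw [map_mul, MulAut.mul_apply, SS.cj_sO]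

theorem Ac.comm (d : Id τ β) (a : Ac β h x) (k : Om F 6) :
    Commute h (β k) ↔ SS.cj _ x k = k := by
  obtain ⟨k', e, e'⟩ := a.ex k
  rw [← e, commute_iff_eq, ← mul_inv_eq_iff_eq_mul, e', d.inj.eq_iff, Subtype.ext_iff]

theorem Ac.cen (d : Id τ β) (a : Ac β h x) (b : Ac β h' x) : h' = h ∨ h' = h * t τ 6 := by
  have c := a.inv.mul b
  rw [inv_mul_cancel] at c
  rcases d.cen _ fun k => (c.comm d k).2 (by rw [map_one, MulAut.one_apply]) with e | e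
  exacts [.inl (inv_mul_eq_one.1 e).symm, .inr (inv_mul_eq_iff_eq_mul.1 e)]

theorem cj_fs (g k : OG (Qs F 6)) (σ : RingAut F) :
    SS.cj _ (SS.oO _ g * fs F 6 σ) k = g * fa F 6 σ k * g⁻¹ := by
  rw [map_mul, MulAut.mul_apply, SS.cj_oO]; rfl

end Ac

theorem ext2 {K G Y : Type*} [Group K] [Group G] [Group Y] (U : K →* G) (b : K →* Y)
    (hU : Function.Injective U) {s : G} {r : Y} (hs : s * s = 1) (hr : r * r = 1)
    (hn : ∀ k, ∃ k', s * U k = U k' * s ∧ r * b k = b k' * r) (h1 : s ∉ U.range)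
    (hG : ∀ g, g ∈ U.range ∨ g * s ∈ U.range) : ∃ φ : G →* Y, (∀ k, φ (U k) = b k) ∧ φ s = r := by
  let R : G → Y → Prop := fun g x => ∃ k, (g = U k ∧ x = b k) ∨ (g = U k * s ∧ x = b k * r)
  have r1 : ∀ g, ∃ x, R g x := fun g => by
    rcases hG g with ⟨k, e⟩ | ⟨k, e⟩
    · exact ⟨_, k, .inl ⟨e.symm, rfl⟩⟩
    · exact ⟨_, k, .inr ⟨by rw [e, mul_assoc, hs, mul_one], rfl⟩⟩
  have r2 : ∀ g x x', R g x → R g x' → x = x' := by
    rintro g x x' ⟨k, ⟨rfl, rfl⟩ | ⟨rfl, rfl⟩⟩ ⟨k', ⟨e, rfl⟩ | ⟨e, rfl⟩⟩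
    · rw [hU e]
    · exact (h1 ⟨k'⁻¹ * k, by rw [map_mul, map_inv, e, inv_mul_cancel_left]⟩).elim
    · exact (h1 ⟨k⁻¹ * k', by rw [map_mul, map_inv, ← e, inv_mul_cancel_left]⟩).elim
    · rw [hU (mul_right_cancel e)]
  have r3 : ∀ g x g' x', R g x → R g' x' → R (g * g') (x * x') := by
    rintro _ _ _ _ ⟨k, ⟨rfl, rfl⟩ | ⟨rfl, rfl⟩⟩ ⟨k', ⟨rfl, rfl⟩ | ⟨rfl, rfl⟩⟩
    · exact ⟨k * k', .inl ⟨(map_mul _ _ _).symm, (map_mul _ _ _).symm⟩⟩
    · exact ⟨k * k', .inr ⟨by rw [map_mul, mul_assoc], by rw [map_mul, mul_assoc]⟩⟩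
    · obtain ⟨l, e1, e2⟩ := hn k'
      exact ⟨k * l, .inr ⟨by rw [mul_assoc, e1, map_mul, mul_assoc], by rw [mul_assoc, e2, map_mul, mul_assoc]⟩⟩
    · obtain ⟨l, e1, e2⟩ := hn k'
      exact ⟨k * l, .inl ⟨by rw [mul_assoc, ← mul_assoc s, e1, mul_assoc, hs, mul_one, map_mul],
        by rw [mul_assoc, ← mul_assoc r, e2, mul_assoc, hr, mul_one, map_mul]⟩⟩
  choose f hf using r1
  exact ⟨MonoidHom.mk' f fun a b => r2 _ _ _ (hf _) (r3 _ _ _ _ (hf a) (hf b)),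
    fun k => r2 _ _ _ (hf _) ⟨k, .inl ⟨rfl, rfl⟩⟩, r2 _ _ _ (hf _) ⟨1, .inr ⟨by simp, by simp⟩⟩⟩

theorem top_of_sq {H : Subgroup X} (ho : Odd H.index) (h : ∀ g, g * g ∈ H) : H = ⊤ := by
  have : H.Normal := ⟨fun n hn g => by
    rw [show g * n * g⁻¹ = g * n * (g * n) * n⁻¹ * (g⁻¹ * g⁻¹) by group]
    exact mul_mem (mul_mem (h _) (inv_mem hn)) (h _)⟩
  refine eq_top_iff.2 fun g _ => ?_
  obtain ⟨m, hm⟩ := ho
  have := pow_index_mem H g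
  rw [hm, pow_succ, two_mul, pow_add] at this
  exact (mul_mem_cancel_left (h _)).1 this

theorem Id.top (d : Id τ β) {H : Subgroup X} (h1 : ∀ k, β k ∈ H) (h2 : t τ 5 ∈ H) (h : ∀ g, g * g ∈ H) :
    H = ⊤ := top_of_sq (d.odd.of_dvd_nat (index_dvd_of_le (sup_le (by
      rintro _ ⟨k, rfl⟩; exact h1 k) (zpowers_le.2 h2)))) h

theorem Id.t5 (d : Id τ β) : t τ 5 ∉ β.range := fun h => absurd ((d.mem _).1 h) (by decide)

theorem Id.t6 (d : Id τ β) : t τ 6 ∈ β.range := (d.mem _).2 (by decide)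

theorem entry6 (h2 : (2 : F) ≠ 0) {g : (Fin 6 → F) →ₗ[F] (Fin 6 → F)}
    (h : ∀ v : VV 6, ∑ i, v.toAdd i = 0 → ∀ x, g ((dg F 6 v).1 x) = (dg F 6 v).1 (g x)) {j k : Fin 6}
    (ne : k ≠ j) : g (bv F j) k = 0 := by
  obtain ⟨l, a, b⟩ := (by decide : ∀ j k : Fin 6, k ≠ j → ∃ l, ∑ i, (ee j * ee l).toAdd i = (0 : ZMod 2) ∧
    (ee j * ee l).toAdd j ≠ (ee j * ee l).toAdd k) j k ne
  exact entry h2 (h _ a) b

theorem diag6 (h2 : (2 : F) ≠ 0) {g : OG (Qs F 6)}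
    (h : ∀ v : VV 6, ∑ i, v.toAdd i = 0 → Commute g (dg F 6 v)) : ∃ w, g = dg F 6 w := by
  classical
  refine ⟨Multiplicative.ofAdd fun j => if g.1 (bv F j) = bv F j then 0 else 1, og_ext fun j => ?_⟩
  rw [dg_bv, toAdd_ofAdd]
  split_ifs with c
  · rw [c, sg_zero, one_smul]
  · rw [(line_of fun k hk => entry6 h2 (g := g.1.toLinearMap) (fun v hv x =>
      congrArg (fun y : OG (Qs F 6) => y.1 x) (h v hv).eq) hk).resolve_left c, sg_one, neg_one_smul]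

/-- the embedding `O₆ → O₇` -/
def u7 : OG (Qs F 6) →* OG (Qs F 7) := up F 6 1

theorem u7_dg (v : VV 6) : u7 (dg F 6 v) = dg F 7 (ex 1 v) := up_dg v

theorem u7_fa (σ : RingAut F) (g : OG (Qs F 6)) : u7 (fa F 6 σ g) = fa F 7 σ (u7 g) := up_fa σ g

theorem nO_comm {n : ℕ} (g : OG (Qs F n)) : Commute g (negOne _) := mem_center_iff.1 negOne_mem_center g

theorem s_eq (h2 : (2 : F) ≠ 0) : τ₀ F (ee 5) = negOne _ * u7 (dg F 6 (ee 5)) := by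
  rw [u7_dg, show (ex 1 (ee 5 : VV 6) : VV 7) = ee 5 by decide, τ₀_ee h2, dg_ee h2]

theorem d6_comm {w : VV 7} (hw : w = 1 ∨ w = ee 6) (g : OG (Qs F 6)) : Commute (dg F 7 w) (u7 g) := by
  rcases hw with rfl | rfl
  · rw [map_one]; exact Commute.one_left _
  · rw [show (ee 6 : VV 7) = al 7 * ex 1 (al 6) by decide, map_mul, ← u7_dg, dg_al, dg_al]
    exact (nO_comm _).symm.mul_left ((nO_comm g).symm.map u7)

theorem sp_ex (h2 : (2 : F) ≠ 0) {g : OG (Qs F 6)}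
    (h : spinor (nd_Qs h2 6) ((nd_Qs h2 6).reflGen_odd h2) g = 1) :
    ∃ w : VV 7, (w = 1 ∨ w = ee 6) ∧ u7 g * dg F 7 w ∈ Om F 7 := by
  rcases Int.units_eq_one_or (dickson (nd_Qs h2 6) ((nd_Qs h2 6).reflGen_odd h2) g) with e | e
  · exact ⟨1, .inl rfl, (up_dg_mem (n := 1) h2 g 1).2 ⟨e.trans (by decide), h⟩⟩
  · exact ⟨ee 6, .inr rfl, (up_dg_mem (n := 1) h2 g (ee 6)).2 ⟨e.trans (by decide), h⟩⟩

theorem sp_fa (h2 : (2 : F) ≠ 0) (σ : RingAut F) {g : OG (Qs F 6)}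
    (h : spinor (nd_Qs h2 6) ((nd_Qs h2 6).reflGen_odd h2) g = 1) :
    spinor (nd_Qs h2 6) ((nd_Qs h2 6).reflGen_odd h2) (fa F 6 σ g) = 1 := by
  obtain ⟨w, -, e⟩ := sp_ex h2 h
  have := fa_Om σ e
  rw [map_mul, fa_dg, ← u7_fa] at this
  exact ((up_dg_mem (n := 1) h2 _ w).1 this).2

theorem fa_inv {n : ℕ} (σ : RingAut F) (g : OG (Qs F n)) : fa F n σ (fa F n σ⁻¹ g) = g := by
  rw [← fa_mul, mul_inv_cancel, fa_one]

/-- `nor`, `inj`, `aut_om` -/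
theorem Id.ac (hF : F35 F) (d : Id τ β) (h : X) : ∃ x, Ac β h x := by
  have := d.nor
  let e := MonoidHom.ofInjective d.inj
  obtain ⟨x, hx⟩ := aut_om hF (.inr rfl) (e.trans ((MulAut.conjNormal h).trans e.symm))
  refine ⟨x, fun k k' c => ?_⟩
  rw [show k' = e.symm (MulAut.conjNormal h (e k)) from Subtype.ext (c.trans (hx k).symm),
    MonoidHom.apply_ofInjective_symm]
  rfl

/-- Let `Ac β (t 5) x`. As `t 5 ^ 2 = 1`, `x²` is a scalar (`cj_triv`), so `x.σ² = 1`, `x.σ = 1`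
(`F35.odd_aut`). `x` commutes with the `dg v`, `v` even, so it is diagonal (`entry` for `x.lin`),
`x eᵢ = dᵢ eᵢ`, `dᵢ² = x.c`, `x = d₀ · dg w`. So `Ac β (t 5) (oO (dg w))`. For `σ` even fixing `5` and `6`
take `k` with `Pm τ (β k) σ` (`alt`): `β k` commutes with `t 5`, so `k` commutes with `dg w`, and
`k (dg v) k⁻¹ = dg (v ∘ σ⁻¹)` for even `v`. If `w` is even then `t 5 (β (dg w))⁻¹` centralizes the image, so
`t 5 ∈ β.range` by `cen`, against `mem`. So `w` is odd; `w + ee 5` is even and `k` is monomial with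
permutation `σ` (`(pm σ)⁻¹ k` commutes with the even `dg v`, so it is diagonal), hence `w ∘ σ⁻¹ = w`:
`w` is constant on `0, …, 4`, so `w = ee 5` or `w = ee 5 + 1`, and `-1` acts trivially. -/
theorem Id.ac5 (hF : F35 F) (d : Id τ β)
    (e : ∀ (v : VV 6) (k : Om F 6), (k : OG (Qs F 6)) = dg F 6 v → β k = τ (ex 1 v)) :
    Ac β (t τ 5) (SS.oO _ (dg F 6 (ee 5))) := by
  have h2 := hF.two_ne
  obtain ⟨x, a⟩ := d.ac hF (t τ 5)
  have c1 : ∀ {x}, Ac β (t τ 5) x → ∀ v : VV 6, ∑ i, v.toAdd i = 0 → SS.cj _ x (dg F 6 v) = dg F 6 v :=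
    fun a v hv => (a.comm d ⟨_, (dg_mem h2 v).2 hv⟩).1 (by rw [e v _ rfl]; exact tau_comm τ _ _)
  have hσ : x.σ = 1 := by
    have b := a.mul a
    rw [tau_sq] at b
    obtain ⟨c, hc⟩ := cj_triv h2 (by decide) fun g hg => (b.comm d ⟨g, hg⟩).1 (Commute.one_left _)
    have sq : x.σ ^ 2 = 1 := by rw [← SS.pow_σ, pow_two, hc]; rfl
    exact orderOf_eq_one_iff.1 (Nat.Coprime.eq_one_of_dvd (Nat.coprime_two_right.2
      (hF.odd_aut.of_dvd_nat (orderOf_dvd_natCard _))) (orderOf_dvd_of_pow_eq_one sq))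
  have hc : IsSquare x.c := by
    have e1 : x.T (bv F 0) = x.T (bv F 0) 0 • bv F 0 := funext fun k => by
      by_cases c : k = 0
      · subst c; simp [bv]
      · rw [show x.T (bv F 0) k = 0 from entry6 h2 (g := (x.lin hσ).toLinearMap) (fun v hv y => by
          have := SS.cj_apply x (dg F 6 v) y
          rw [c1 a v hv] at this
          exact this.symm) c]
        simp [bv, c]
    have q := x.q (bv F 0)
    rw [e1, Q_smul, Qs_bv, map_one, mul_one, mul_one, pow_two] at q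
    exact ⟨_, q.symm⟩
  obtain ⟨c, g, rfl⟩ := SS.exists_eq_of_isSquare hσ hc
  have b := a.sO c⁻¹
  rw [← mul_assoc, ← map_mul, inv_mul_cancel, map_one, one_mul] at b
  obtain ⟨w, rfl⟩ := diag6 h2 (g := g) fun v hv => mul_inv_eq_iff_eq_mul.1 ((SS.cj_oO _ _).symm.trans (c1 b v hv))
  have od : ∑ i, w.toAdd i ≠ 0 := fun hw => by
    rcases (Ac.of (β := β) ⟨_, (dg_mem h2 w).2 hw⟩).cen d b with c | c
    · exact d.t5 ⟨_, c.symm⟩
    · exact d.t5 (c ▸ mul_mem ⟨_, rfl⟩ d.t6)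
  let p : Equiv.Perm (Fin 6) := Equiv.swap 0 1 * Equiv.swap 1 2 * Equiv.swap 2 3 * Equiv.swap 3 4
  let p' : Equiv.Perm (Fin 7) := Equiv.swap 0 1 * Equiv.swap 1 2 * Equiv.swap 2 3 * Equiv.swap 3 4
  obtain ⟨k, hk⟩ := d.alt p' (by decide) (by decide)
  have k1 : Commute (dg F 6 w) k := mul_inv_eq_iff_eq_mul.1 ((SS.cj_oO _ _).symm.trans
    ((b.comm d k).1 (Commute.symm (mul_inv_eq_iff_eq_mul.1 (hk 5)))))
  obtain ⟨u, hu⟩ := diag6 h2 (g := (pm F 6 p)⁻¹ * k) fun v hv => by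
    have hv' : ∑ i, (Multiplicative.ofAdd fun i => v.toAdd (p.symm i)).toAdd i = 0 :=
      (Equiv.sum_comp p.symm v.toAdd).trans hv
    have k2 := hk.tau (ex 1 v)
    rw [show (Multiplicative.ofAdd fun i => (ex 1 v : VV 7).toAdd (p'.symm i)) =
      ex 1 (Multiplicative.ofAdd fun i => v.toAdd (p.symm i)) from congrArg Multiplicative.ofAdd
        (funext fun i => by fin_cases i <;> rfl), ← e v ⟨_, (dg_mem h2 v).2 hv⟩ rfl,
      ← e _ ⟨_, (dg_mem h2 _).2 hv'⟩ rfl, ← map_inv, ← map_mul, ← map_mul] at k2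
    have k3 : k * dg F 6 v * (k : OG (Qs F 6))⁻¹ = _ :=
      (congrArg Subtype.val (d.inj k2)).trans (pm_dg p v).symm
    rw [commute_iff_eq, ← mul_inv_eq_iff_eq_mul, show (pm F 6 p)⁻¹ * k * dg F 6 v * ((pm F 6 p)⁻¹ * k)⁻¹ =
      (pm F 6 p)⁻¹ * (k * dg F 6 v * (k : OG (Qs F 6))⁻¹) * pm F 6 p by group, k3]
    group
  have k4 : pm F 6 p * dg F 6 w * (pm F 6 p)⁻¹ = dg F 6 w := by
    rw [inv_mul_eq_iff_eq_mul] at hu
    rw [mul_inv_eq_iff_eq_mul, show pm F 6 p = k * (dg F 6 u)⁻¹ by rw [hu, mul_inv_cancel_right]]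
    exact (k1.mul_right ((Commute.all w u).map _).inv_right).symm
  rw [pm_dg] at k4
  rcases (by decide +kernel : ∀ w : VV 6, (Multiplicative.ofAdd fun i => w.toAdd (p.symm i)) = w →
    ∑ i, w.toAdd i ≠ 0 → w = ee 5 ∨ w = ee 5 * al 6) w (dg_inj h2 k4) od with rfl | rfl
  · exact b
  · refine b.congr fun k => ?_
    rw [map_mul, dg_al, map_mul, ← SS.sO_neg_one, map_mul, MulAut.mul_apply, SS.cj_sO]

theorem Id.ac_sp (hF : F35 F) (d : Id τ β) (a5 : Ac β (t τ 5) (SS.oO _ (dg F 6 (ee 5)))) (h : X) :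
    ∃ g σ, Ac β h (SS.oO _ g * fs F 6 σ) ∧
      spinor (nd_Qs hF.two_ne 6) ((nd_Qs hF.two_ne 6).reflGen_odd hF.two_ne) g = 1 := by
  have h2 := hF.two_ne
  let H₁ : Subgroup X :=
    { carrier := {h | ∃ x, Ac β h x ∧ x.c = 1}
      mul_mem' := fun ⟨x, a, e⟩ ⟨y, b, e'⟩ => ⟨_, a.mul b, by rw [SS.mul_c, e, e', map_one, mul_one]⟩
      one_mem' := ⟨_, map_one β ▸ Ac.of 1, rfl⟩
      inv_mem' := fun ⟨x, a, e⟩ => ⟨_, a.inv, by rw [SS.inv_c, e, inv_one, map_one]⟩ }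
  have k1 : H₁ = ⊤ := d.top (fun k => ⟨_, Ac.of k, rfl⟩) ⟨_, a5, rfl⟩ fun g => by
    obtain ⟨x, a⟩ := d.ac hF g
    obtain ⟨c, e⟩ : IsSquare (x * x).c := by
      rw [SS.mul_c]
      by_cases s : IsSquare x.c
      · exact s.mul (s.map x.σ)
      · exact isSquare_mul_of_not_isSquare s fun s' => s (by simpa using s'.map x.σ.symm)
    have c0 : c ≠ 0 := by rintro rfl; exact (x * x).ne (by simpa using e)
    refine ⟨_, (a.mul a).sO (Units.mk0 c c0)⁻¹, ?_⟩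
    show (c⁻¹) ^ 2 * (x * x).c = 1
    rw [e]; field_simp
  have m : ∀ {h h' g g' σ σ'}, Ac β h (SS.oO _ g * fs F 6 σ) → Ac β h' (SS.oO _ g' * fs F 6 σ') →
      Ac β (h * h') (SS.oO _ (g * fa F 6 σ g') * fs F 6 (σ * σ')) := fun a b => (a.mul b).congr fun k => by
    rw [cj_fs, map_mul (SS.cj _), MulAut.mul_apply, cj_fs, cj_fs, fa_mul, map_mul, map_mul, map_inv]
    group
  have o : ∀ {h g}, Ac β h (SS.oO _ g) → Ac β h (SS.oO _ g * fs F 6 1) := fun a => a.congr fun k => by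
    rw [cj_fs, fa_one, SS.cj_oO]
  let H₂ : Subgroup X :=
    { carrier := {h | ∃ g σ, Ac β h (SS.oO _ g * fs F 6 σ) ∧
        spinor (nd_Qs h2 6) ((nd_Qs h2 6).reflGen_odd h2) g = 1}
      mul_mem' := fun ⟨g, σ, a, e⟩ ⟨g', σ', b, e'⟩ => ⟨_, _, m a b, by rw [map_mul, e, sp_fa h2 σ e', mul_one]⟩
      one_mem' := ⟨_, _, map_one β ▸ o (Ac.of 1), map_one _⟩
      inv_mem' := fun ⟨g, σ, a, e⟩ => ⟨fa F 6 σ⁻¹ g⁻¹, σ⁻¹, a.inv' fun k => by
        rw [cj_fs, cj_fs, map_mul, map_mul, map_inv (fa F 6 σ), fa_inv, fa_inv]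
        group, sp_fa h2 _ (by rw [map_inv, e, inv_one])⟩ }
  have k2 : H₂ = ⊤ := d.top (fun k => ⟨_, _, o (Ac.of k), ((mem_commutator_iff _ _ _).1 k.2).2⟩)
    ⟨_, _, o a5, by rw [dg_ee h2, spinor_refl _ _ (by rw [Qs_bv]; exact one_ne_zero), Qs_bv, sqClass_one]⟩
    fun h => by
      obtain ⟨x, a, e⟩ : h ∈ H₁ := k1.ge (mem_top h)
      obtain ⟨g, e'⟩ := ss_dec x e
      rw [e'] at a
      refine ⟨_, _, m a a, ?_⟩
      rw [map_mul]
      by_cases s : spinor (nd_Qs h2 6) ((nd_Qs h2 6).reflGen_odd h2) g = 1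
      · rw [s, sp_fa h2 _ s, mul_one]
      · refine sqClass_mul_eq_one_of_ne s fun s' => s ?_
        have := sp_fa h2 x.σ⁻¹ s'
        rwa [← fa_mul, inv_mul_cancel, fa_one] at this
  exact (k2.ge (mem_top h) : h ∈ H₂)

/-- the image of `t 5` -/
theorem Id.conj5 (hF : F35 F) (d : Id τ β) (a5 : Ac β (t τ 5) (SS.oO _ (dg F 6 (ee 5)))) {h : X}
    {g : OG (Qs F 6)} {σ : RingAut F} (a : Ac β h (SS.oO _ g * fs F 6 σ)) : ∃ k : Om F 6,
      g * dg F 6 (ee 5) * g⁻¹ = k * dg F 6 (ee 5) * (k : OG (Qs F 6))⁻¹ ∧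
        h * t τ 5 * h⁻¹ = β k * t τ 5 * (β k)⁻¹ := by
  have h2 := hF.two_ne
  obtain ⟨k, hk, e⟩ := tr' h2 (n := 6) (by decide) (u := bv F 5) (by rw [Qs_bv]; exact one_ne_zero)
    (OG.map_Q g _)
  have e1 : g * dg F 6 (ee 5) * g⁻¹ = k * dg F 6 (ee 5) * k⁻¹ := by rw [dg_ee h2, conj_refl, conj_refl, e]
  refine ⟨⟨k, hk⟩, e1, ?_⟩
  have b1 := (a.mul a5).mul a.inv
  have b2 := ((Ac.of (β := β) ⟨k, hk⟩).mul a5).mul (Ac.of ⟨k, hk⟩).inv
  rw [← SS.oO_cj, cj_fs, fa_dg, e1] at b1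
  rw [← map_inv (SS.oO _), ← map_mul, ← map_mul] at b2
  refine (b2.cen d b1).resolve_right fun c => d.nc (isConj_iff.2 ⟨(β ⟨k, hk⟩)⁻¹ * h, ?_⟩)
  rw [show (β ⟨k, hk⟩)⁻¹ * h * t τ 5 * ((β ⟨k, hk⟩)⁻¹ * h)⁻¹ =
    (β ⟨k, hk⟩)⁻¹ * (h * t τ 5 * h⁻¹) * β ⟨k, hk⟩ by group, c, mul_assoc, mul_assoc _ (t τ 6),
    ← (d.zc _).eq]
  group

set_option maxHeartbeats 1600000 in
/-- Normalize by `Id.frame`. `τ₀ (ee 5) = up (-dg (ee 5)) * dg (ee 6)` normalizes `Fx 6 = up Ω₆` (`up6`) and acts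
as `dg (ee 5)`; `Ln 6 = Fx 6 ⋊ ⟨τ₀ (ee 5)⟩` (`Ln_six`), so `φ (up k * τ₀ (ee 5) ^ i) = β k * t 5 ^ i` is an
injective homomorphism (`t 5 ∉ β.range`) with `φ (τ₀ v) = τ v`. `cen` is clear. `ind`: the `x` with `Ac β h x` is
unique up to scalars (`cj_triv`). The set of `h` with `x.c` a square is a subgroup of index `≤ 2` containing
`β.range ⊔ ⟨t 5⟩`, of odd index, so it is everything; scale to `x.c = 1`, `x = oO g * fs σ` (`ss_dec`), `g` unique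
up to sign. The same argument shows that the spinor norm of `g` is trivial (`spinor (fa σ g) = 1 ↔ spinor g = 1`,
`spinor (-1) = 1`). Put `g' = up g * dg w`, `w ∈ {1, ee 6}` according to the Dickson invariant (`up_dg_mem`),
`g' ∈ Ln 6`; then `Ind` holds on `Fx 6` (`up_fa`). For `y = τ₀ (ee 5)`: `y' = g' y g'⁻¹ = -r(u)`, `u = g' e₅ ∈ V₆`
of norm `1`, so `y' = k y k⁻¹` with `k ∈ Fx 6` (`tr`, `τ₀_ee`) and `φ y'` is conjugate to `t 5`. Both `h (t 5) h⁻¹`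
and `φ y'` act on `β.range` in the same way, so `h (t 5) h⁻¹ ∈ {φ y', φ y' * t 6}` (`cen`); the second case
contradicts `nc` (`zc`). -/
theorem Id.md (hF : F35 F) (d : Id τ β) : ∃ φ : Ln F 6 →* X, Md ⊤ τ φ := by
  obtain ⟨β, d, e⟩ := d.frame hF
  have h2 := hF.two_ne
  have a5 := d.ac5 hF e
  let U : Om F 6 →* Ln F 6 := (u7.comp (Om F 6).subtype).codRestrict _ fun k =>
    Fx_le 6 ((up6 h2).le ⟨k, k.2, rfl⟩)
  have hU : ∀ k, (U k : OG (Qs F 7)) = u7 k := fun _ => rfl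
  have hr : ∀ y : Ln F 6, y ∈ U.range ↔ (y : OG (Qs F 7)) ∈ Fx F 6 := fun y =>
    ⟨fun ⟨k, c⟩ => c ▸ (up6 h2).le ⟨k, k.2, rfl⟩, fun c => by
      obtain ⟨k, hk, c'⟩ := (up6 h2).ge c
      exact ⟨⟨k, hk⟩, Subtype.ext c'⟩⟩
  let T : VV 7 →* Ln F 6 := (τ₀ F).codRestrict _ fun v => τ₀_mem h2 v 6
  have hT : ∀ v, (T v : OG (Qs F 7)) = τ₀ F v := fun _ => rfl
  obtain ⟨φ, f1, f2⟩ := ext2 U β (fun k k' c => Subtype.ext (up_inj (congrArg Subtype.val c)))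
    (tau_sq T (ee 5)) (tau_sq τ (ee 5)) (fun k => by
      obtain ⟨k', c1, c2⟩ := a5.ex k
      refine ⟨k', Subtype.ext ?_, mul_inv_eq_iff_eq_mul.1 c2⟩
      rw [coe_mul, coe_mul, hT, hU, hU, c1, SS.cj_oO, s_eq h2, ← mul_assoc, (nO_comm _).eq, mul_assoc,
        mul_assoc, ← map_mul, ← map_mul, inv_mul_cancel_right])
    (fun c => absurd ((τ₀_mem_Fx h2 _ 6).1 ((hr _).1 c) 6 le_rfl) (by decide))
    fun y => (Ln_six h2 y.2).imp (hr _).2 (hr _).2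
  have dec : ∀ y : Ln F 6, ∃ k, y = U k ∨ y = U k * T (ee 5) := fun y => by
    rcases Ln_six h2 y.2 with c | c
    · obtain ⟨k, c⟩ := (hr _).2 c
      exact ⟨k, .inl c.symm⟩
    · obtain ⟨k, c⟩ := (hr (y * T (ee 5))).2 c
      exact ⟨k, .inr (by rw [c, mul_assoc, tau_sq, mul_one])⟩
  have f3 : ∀ v, φ (T v) = τ v := by
    have al1 : φ (T (al 7)) = τ (al 7) := by
      rw [show T (al 7) = 1 from Subtype.ext ((τ₀_ker h2 _).2 (.inr rfl)), map_one, (d.ker _).2 (.inr rfl)]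
    refine vv_ind (by simp) (fun a b ha hb => by rw [map_mul, map_mul, ha, hb, map_mul]) fun i => ?_
    obtain ⟨u, u1, u2, u3⟩ := (by decide +kernel : ∀ i : Fin 7, ∃ u : VV 6, ∑ j, u.toAdd j = 0 ∧
      ∑ j : Fin 7, (ex 1 u : VV 7).toAdd j = 0 ∧ (ee i = (ex 1 u : VV 7) * ee 5 ∨
        ee i = (ex 1 u : VV 7) * al 7)) i
    have u4 : φ (T (ex 1 u)) = τ (ex 1 u) := by
      rw [show T (ex 1 u) = U ⟨_, (dg_mem h2 u).2 u1⟩ from
        Subtype.ext ((τ₀_even u2).trans (u7_dg u).symm), f1, e u _ rfl]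
    rcases u3 with c | c <;> rw [c, map_mul, map_mul, map_mul, u4]
    · rw [f2]
    · rw [al1]
  refine ⟨φ, (injective_iff_map_eq_one _).2 fun y c => ?_, fun _ => trivial, fun v y c => ?_, fun h _ => ?_,
    fun h _ c => d.cen h fun k => f1 k ▸ c _⟩
  · obtain ⟨k, rfl | rfl⟩ := dec y
    · rw [f1, map_eq_one_iff _ d.inj] at c
      rw [c, map_one]
    · rw [map_mul, f1, f2] at c
      exact (d.t5 ⟨k⁻¹, by rw [map_inv]; exact inv_eq_of_mul_eq_one_right c⟩).elim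
  · rw [show y = T v from Subtype.ext c, f3]
  obtain ⟨g, σ, a, sp⟩ := d.ac_sp hF a5 h
  obtain ⟨w, w1, w2⟩ := sp_ex h2 sp
  have cj : ∀ b, u7 g * dg F 7 w * u7 b * (u7 g * dg F 7 w)⁻¹ = u7 (g * b * g⁻¹) := fun b => by
    rw [mul_assoc (u7 g), (d6_comm w1 b).eq, map_mul, map_mul, map_inv]
    group
  have hg : u7 g * dg F 7 w ∈ Ln F 6 := ⟨w2, fun j hj => by
    obtain rfl : j = 6 := Fin.ext (by have := j.2; omega)
    refine (comm_t h2 _ 6).1 ?_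
    rw [τ₀_ee h2, ← dg_ee h2]
    exact (nO_comm _).mul_right ((d6_comm (.inr rfl) g).symm.mul_left ((Commute.all _ _).map _))⟩
  refine ⟨_, hg, σ, fun y y' c => ?_⟩
  have i1 : ∀ k, ∃ k', u7 g * dg F 7 w * fa F 7 σ (U k) * (u7 g * dg F 7 w)⁻¹ = U k' ∧
      h * β k * h⁻¹ = β k' := fun k => by
    obtain ⟨k', c1, c2⟩ := a.ex k
    exact ⟨k', by rw [hU, hU, ← u7_fa, cj, c1, cj_fs], c2⟩
  obtain ⟨k, rfl | rfl⟩ := dec y
  · obtain ⟨k', c1, c2⟩ := i1 k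
    rw [show y' = U k' from Subtype.ext (c.trans c1), f1, f1, c2]
  · obtain ⟨k', c1, c2⟩ := i1 k
    obtain ⟨l, c3, c4⟩ := d.conj5 hF a5 a
    have c5 : y' = U k' * (U l * T (ee 5) * (U l)⁻¹) := Subtype.ext (by
      rw [c, coe_mul, map_mul, ← conj_mul, c1, hT, fa_τ₀, coe_mul, coe_mul, coe_mul, coe_inv, hT, hU l,
        s_eq h2, ← mul_assoc (u7 g * _), (nO_comm _).eq, ← mul_assoc (u7 (l : OG (Qs F 6))), (nO_comm _).eq,
        mul_assoc (negOne _), mul_assoc (negOne _), mul_assoc (negOne _), mul_assoc (negOne _), cj, c3,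
        map_mul, map_mul, map_inv])
    rw [c5, map_mul, map_mul, map_mul, map_mul, map_inv, f1, f1, f1, f2, ← conj_mul, c2, c4]

end Cfsg.Agent.O7R
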