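import Mathlib
import Cfsg.Agent.O7R.G2
import Cfsg.Agent.W6.Facts

/-! S3101: the local properties of `W(D₆)`. -/

set_option autoImplicit false
set_option linter.unusedSectionVars false
set_option maxRecDepth 100000
set_option synthInstance.maxHeartbeats 400000
set_option synthInstance.maxSize 4000

namespace Cfsg.Agent.O7R

open Subgroup Cfsg.Agent.PLocal.Amb Cfsg.Agent.Lyons Cfsg.Agent.Class.Orth Cfsg.Agent.KSG QuadraticMap

namespace SpL

open Cfsg.Agent.X32 Cfsg.Agent.X32.TG Cfsg.Agent.W6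

/-- the table model -/
noncomputable def E : W6.K ≃* H12 := W6.eqv

theorem t_eq {τ : VV 7 →* H12} (h : ∀ i, (t τ i).1 = p12 i) {i : Fin 7} {a : ℕ}
    (h1 : code (p12 i) = en (e a : W6.K).v) : t τ i = E (e a) :=
  Subtype.ext ((h i).trans (rho_eq h1).symm)

theorem comm_E {a b : W6.K} : E a ∈ 𝐳[E b] ↔ Commute a b := by
  rw [mem_centralizer_singleton_iff, ← map_mul, ← map_mul, E.apply_eq_iff_eq]; rfl

theorem bal1 : ∀ j : Fin 7, j ≠ 6 → ∃ g ∈ [0, 1, 9216, 9217, 18432, 18433],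
    code (p12 j) = en (e g * e 3868 * (e g)⁻¹ : W6.K).v := by decide +kernel

theorem bal2 : Commute (e 4 : W6.K) (e 3868) ∧ ∀ x : W6.K, Commute x (e 3868) → x ^ 4 = 1 ∨
    ((x * (e 4 * x⁻¹ * (e 4)⁻¹)) ^ 4 = 1 ∧ x * (e 4 * x⁻¹ * (e 4)⁻¹) ≠ 1) :=
  BD.of (by decide +kernel)

theorem one_of {X : Subgroup H12} {y : W6.K} (hy : E y ∈ oc X) (h : y ^ 4 = 1) : y = 1 := by
  have h1 : Odd (orderOf y) := by
    rw [← E.orderOf_eq]
    exact (odd_oc X).of_dvd_nat (orderOf_dvd_natCard _ hy)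
  exact orderOf_eq_one_iff.1 ((Nat.coprime_self _).1 (Nat.Coprime.coprime_dvd_left
    (orderOf_dvd_of_pow_eq_one h) ((Nat.coprime_two_left.2 h1).pow_left 2)))

theorem bal {τ : VV 7 →* H12} (h : ∀ i, (t τ i).1 = p12 i) (j : Fin 7) (hj : j ≠ 6) :
    oc 𝐳[t τ j] = ⊥ := by
  obtain ⟨g, -, h1⟩ := bal1 j hj
  rw [show t τ j = E (e g * e 3868 * (e g)⁻¹) from Subtype.ext ((h j).trans (rho_eq h1).symm),
    map_mul, map_mul, map_inv, centralizer_singleton_conj, oc_cj, cj_eq_bot, eq_bot_iff]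
  intro x hx
  obtain ⟨y, rfl⟩ := E.surjective x
  rcases bal2.2 y (comm_E.1 (oc_le _ hx)) with h4 | h4
  · rw [one_of hx h4, map_one]; exact one_mem _
  · refine absurd (one_of (X := 𝐳[E (e 3868)]) ?_ h4.1) h4.2
    simp only [map_mul, map_inv]
    exact mul_mem hx (conj_mem_of_mem_normalizer (le_norm_oc _ (comm_E.2 bal2.1)) (inv_mem hx))

theorem gen1 : ∀ i : Fin 7, ∃ a ∈ [3868, 3871, 211, 223, 47, 63, 31],
    code (p12 i) = en (e a : W6.K).v := by decide +kernel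

theorem gen2 : ∀ a ∈ [3868, 3871, 211, 223, 47, 63, 31], ∃ i : Fin 7,
    code (p12 i) = en (e a : W6.K).v := by decide +kernel

theorem gen3 : ∀ g ∈ (es [3840, 192, 32, 1, 2, 4, 8, 16, 9728] : List W6.K),
    ∀ a ∈ [3868, 3871, 211, 223, 47, 63, 31], ∃ b ∈ [3868, 3871, 211, 223, 47, 63, 31],
      g * e a * g⁻¹ = e b := BD.of (by decide +kernel)

theorem gen4 : (∀ g ∈ (es gl : List W6.K), g ∈ (es [3840, 192, 32, 1, 2, 4, 8, 16, 9728] : List W6.K) ∨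
    g = e 768 ∨ g = e 9728 * e 768 * (e 9728)⁻¹) ∧ Commute (e 768 : W6.K) (e 47) ∧
    Commute (e 768 : W6.K) (e 63) := BD.of (by decide +kernel)

theorem gen {τ : VV 7 →* H12} (h : ∀ i, (t τ i).1 = p12 i) :
    𝐍[τ.range] ⊔ 𝐳[t τ 4] ⊓ 𝐳[t τ 5] = ⊤ := by
  have h1 : ∀ g ∈ (es [3840, 192, 32, 1, 2, 4, 8, 16, 9728] : List W6.K),
      E g ∈ 𝐍[τ.range] ⊔ 𝐳[t τ 4] ⊓ 𝐳[t τ 5] := fun g hg =>
    mem_sup_left (mem_normalizer_of_cj_le (cj_le_iff.2 (range_le fun i => by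
      obtain ⟨a, ha, h2⟩ := gen1 i
      obtain ⟨b, hb, h3⟩ := gen3 g hg a ha
      obtain ⟨j, h4⟩ := gen2 b hb
      rw [mem_cj, inv_inv, t_eq h h2, ← map_inv, ← map_mul, ← map_mul, h3, ← t_eq h h4]
      exact ⟨_, rfl⟩)))
  have h2 : E (e 768) ∈ 𝐍[τ.range] ⊔ 𝐳[t τ 4] ⊓ 𝐳[t τ 5] := by
    rw [t_eq h (i := 4) (a := 47) (by decide +kernel), t_eq h (i := 5) (a := 63) (by decide +kernel)]
    exact mem_sup_right ⟨comm_E.2 gen4.2.1, comm_E.2 gen4.2.2⟩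
  have h3 := h1 (e 9728) (List.mem_map_of_mem (by simp))
  have h4 : (𝐍[τ.range] ⊔ 𝐳[t τ 4] ⊓ 𝐳[t τ 5]).comap E.toMonoidHom = ⊤ := top_of_gl fun g hg => by
    rcases gen4.1 g hg with h5 | rfl | rfl
    · exact h1 g h5
    · exact h2
    · exact mul_mem (mul_mem h3 h2) (inv_mem (x := e 9728) h3)
  rw [eq_top_iff]
  intro x _
  obtain ⟨y, rfl⟩ := E.surjective x
  exact (h4 ▸ mem_top y : y ∈ Subgroup.comap _ _)

/-- the vectors `eⱼ` as functions on the twelve points -/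
def ev : Fin 7 → Fin 12 → ZMod 3 :=
  ![![1, -1, 1, -1, 0, 0, 0, 0, 0, 0, 0, 0], ![1, -1, -1, 1, 0, 0, 0, 0, 0, 0, 0, 0],
    ![0, 0, 0, 0, 1, -1, 1, -1, 0, 0, 0, 0], ![0, 0, 0, 0, 1, -1, -1, 1, 0, 0, 0, 0],
    ![0, 0, 0, 0, 0, 0, 0, 0, 1, -1, 1, -1], ![0, 0, 0, 0, 0, 0, 0, 0, 1, -1, -1, 1], 0]

theorem ev1 : ∀ i j p, ev j (p12 i p) =
    sg (ZMod 3) ((ee i).toAdd j + ∑ k, (ee i).toAdd k) * ev j p := by decide +kernel

theorem ev2 : ∀ p q, ∑ k, ev k p * ev k q =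
    (if p = q then 2 else 0) - (if p = p12 6 q then 2 else 0) := by decide +kernel

theorem ev3 : ∀ j, j ≠ 6 → (∃ p, ev j p ≠ 0) ∧ ∀ p q, p12 j p = q ↔
    (ev j p = 0 ∧ p12 6 p = q) ∨ (ev j p ≠ 0 ∧ ev j p = ev j q ∧ p ≠ q) := by decide +kernel

theorem ev4 : ∀ j p, ev j (p12 6 p) = -ev j p := by decide +kernel

theorem ev5 : ∀ a b c : ZMod 2, a ≠ b → sg (ZMod 3) (a + c) * sg (ZMod 3) (b + c) = -1 := by
  decide +kernel

theorem ev_tau {τ : VV 7 →* H12} (h : ∀ i, (t τ i).1 = p12 i) (j : Fin 7) (v : VV 7) :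
    ∀ p, ev j ((τ v).1 p) = sg (ZMod 3) (v.toAdd j + ∑ k, v.toAdd k) * ev j p := by
  refine vv_ind (P := fun v => ∀ p, ev j ((τ v).1 p) =
    sg (ZMod 3) (v.toAdd j + ∑ k, v.toAdd k) * ev j p) (fun p => ?_) (fun a b ha hb p => ?_)
    (fun i p => ?_) v
  · simp [sg_zero]
  · rw [map_mul, Subgroup.coe_mul, Equiv.Perm.mul_apply, ha, hb, ← mul_assoc, ← sg_add]
    simp only [toAdd_mul, Pi.add_apply, Finset.sum_add_distrib]
    rw [add_add_add_comm]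
  · rw [← ev1, ← h]

theorem sep {τ : VV 7 →* H12} (h : ∀ i, (t τ i).1 = p12 i) {W : Subgroup H12} {j : Fin 7}
    (hs : Sep τ W 6 j) : 𝐂[W] ≤ 𝐳[t τ j] := fun x hx => by
  have h6 : ∀ p, x.1 (p12 6 p) = p12 6 (x.1 p) := fun p =>
    congrArg (fun σ : Equiv.Perm (Fin 12) => σ p) (mem_centralizer_singleton_iff.1 x.2.2)
  rw [mem_centralizer_singleton_iff]
  refine Subtype.ext (Equiv.ext fun p => ?_)
  rw [Subgroup.coe_mul, Subgroup.coe_mul, h, Equiv.Perm.mul_apply, Equiv.Perm.mul_apply]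
  by_cases hj : j = 6
  · rw [hj, h6]
  have h1 : ∀ k, k ≠ j → ∑ p, ev j (x.1 p) * ev k p = 0 := fun k hk => by
    by_cases hk6 : k = 6
    · rw [hk6]
      exact Finset.sum_eq_zero fun p _ => mul_zero _
    obtain ⟨v, hv, ne⟩ := hs k hk6 hk
    have h2 : ∀ p, x.1 ((τ v).1 p) = (τ v).1 (x.1 p) := fun p =>
      congrArg (fun σ : H12 => σ.1 p) (hx _ hv).symm
    have h3 := Equiv.sum_comp (τ v).1 fun p => ev j (x.1 p) * ev k p
    rw [Finset.sum_congr rfl fun p _ => show _ = -1 * (ev j (x.1 p) * ev k p) by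
      rw [h2, ev_tau h, ev_tau h, mul_mul_mul_comm, ev5 _ _ _ ne], ← Finset.mul_sum] at h3
    have h4 : ∀ a : ZMod 3, -1 * a = a → a = 0 := by decide
    exact h4 _ h3
  obtain ⟨c, hc⟩ : ∃ c, ∀ q, ev j (x.1 q) = c * ev j q := ⟨∑ p, ev j (x.1 p) * ev j p, fun q => by
    have h2 : ∑ k, (∑ p, ev j (x.1 p) * ev k p) * ev k q = ev j (x.1 q) := by
      simp only [Finset.sum_mul]
      rw [Finset.sum_comm]
      simp only [mul_assoc, ← Finset.mul_sum, ev2, mul_sub, Finset.sum_sub_distrib, mul_ite, mul_zero,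
        Finset.sum_ite_eq', Finset.mem_univ, if_true, h6, ev4]
      have h4 : ∀ a : ZMod 3, a * 2 - -a * 2 = a := by decide
      exact h4 _
    rw [← h2, Finset.sum_eq_single j (fun k _ hk => by rw [h1 k hk, zero_mul]) (by simp)]⟩
  obtain ⟨⟨q, hq⟩, h3⟩ := ev3 j hj
  have hc0 : c ≠ 0 := fun h0 => hq (by
    have := hc (x.1.symm q)
    rwa [Equiv.apply_symm_apply, h0, zero_mul] at this)
  refine ((h3 _ _).2 ?_).symm
  rw [hc, hc]
  rcases (h3 p _).1 rfl with ⟨h4, h5⟩ | ⟨h4, h5, h7⟩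
  · exact .inl ⟨by rw [h4, mul_zero], by rw [← h5, h6]⟩
  · exact .inr ⟨mul_ne_zero hc0 h4, by rw [← h5], x.1.injective.ne h7⟩

end SpL

/-- `W6.eqv : K ≃* HH` is a table model of `H12` (`W6.HH`), of order `23040`; facts may be checked there by
`BD.of (by decide +kernel)`.
`bal`: the even sign changes form a normal self-centralizing `2`-subgroup `E`; `P = O(C(t j))` centralizes
`C_E(t j)`, hence `E` by the `A × B` lemma, so `P ≤ E`, `P = 1`. (Or: `C(t j)` has order `768 = 2⁸ · 3`, and no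
element of order `3` of it commutes with `C_E(t j)`.)
`sep`: either represent `H12` faithfully by signed permutation matrices on `f₀, …, f₅` over `ZMod 3` or `ℚ`;
in the basis `e₀ = f₀ + f₁`, `e₁ = f₀ - f₁`, … the element `τ v` is `diag (sg (v j + ∑ v))`; an element
commuting with `W` has zero entries `(j, k)`, `(k, j)` for all `k ≠ j` (`entry`), so it commutes with `t j`.
Or by the table: let `x ∈ C(W)`; for each `k ≠ j, 6` there is `v_k` with `[x, τ v_k] = 1`, `v_k j ≠ v_k k`; check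
`∀ x j, (∀ k, k ≠ 6 → k ≠ j → ∃ v, Commute x (τ v) ∧ v j ≠ v k) → Commute x (t j)` (compute the set of `v`
commuting with `x` once for each `x`; reduce to coset representatives if necessary).
`gen`: `N(A)` contains the Sylow subgroup of index `45`, the reflections `t i t 6` in the `eᵢ` and
`ρ = (f₀ f₂ f₄)(f₁ f₃ f₅)`; `C(t 4) ⊓ C(t 5)` contains `(f₁ f₂)`; these generate (`W6.top_of_gl`). -/
theorem lh12 (τ : VV 7 →* H12) (h : ∀ i, (t τ i).1 = p12 i) : LH τ := by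
  exact ⟨SpL.bal h, fun _ _ _ => SpL.sep h, SpL.gen h⟩

end Cfsg.Agent.O7R
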